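import Cfsg.Agent.OddAutTwoGroup.Frame

/-!
# The action of `X` on a self-centralising frame `D`

`theta x d = x d x⁻¹ d⁻¹`; modulo `D⁴` the sum of the three `α`-conjugates of `theta x` vanishes,
so `theta x` is zero or injective on `D / D²` modulo `D⁴`.
-/

set_option autoImplicit false

open Subgroup

namespace CfsgLib.OddAutTwoGroup

variable {X : Type*} [Group X]

/-- The displacement of `d` by `x`. -/
def theta (x d : X) : X := x * d * x⁻¹ * d⁻¹

theorem theta_one_right (x : X) : theta x 1 = 1 := by simp [theta]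

theorem theta_eq_one {x d : X} : theta x d = 1 ↔ x * d = d * x := by
  rw [theta, mul_inv_eq_one, mul_inv_eq_iff_eq_mul]

theorem theta_map (φ : MulAut X) (x d : X) : theta (φ x) (φ d) = φ (theta x d) := by
  simp [theta]

theorem theta_mul_left (x y d : X) :
    theta (x * y) d = theta x (theta y d) * theta y d * theta x d := by
  simp only [theta]; group

variable [Finite X] {A : Subgroup (MulAut X)} {D : Subgroup X} {α : MulAut X}

namespace Frame

variable (F : Frame A D α)
include F

theorem theta_sq (x : X) {d : X} (hd : d ∈ D) : theta x d ∈ sqImage D := F.conj_mem_sq x hd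

theorem theta_mem (x : X) {d : X} (hd : d ∈ D) : theta x d ∈ D :=
  sqImage_le D (F.theta_sq x hd)

theorem theta_mul_right (x : X) {d e : X} (hd : d ∈ D) (he : e ∈ D) :
    theta x (d * e) = theta x d * theta x e := by
  have h := F.comm _ (F.theta_mem x he) _ (inv_mem hd)
  calc theta x (d * e) = x * d * x⁻¹ * (theta x e * d⁻¹) := by simp only [theta]; group
    _ = theta x d * theta x e := by rw [h]; simp only [theta]; group

theorem theta_inv_right (x : X) {d : X} (hd : d ∈ D) : theta x d⁻¹ = (theta x d)⁻¹ := by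
  refine eq_inv_of_mul_eq_one_left ?_
  rw [← F.theta_mul_right x (inv_mem hd) hd, inv_mul_cancel, theta_one_right]

theorem theta_four (x : X) {c : X} (hc : c ∈ sqImage D) :
    theta x c ∈ sqImage (sqImage D) := by
  obtain ⟨e, he, rfl⟩ := (mem_sqImage F.comm).mp hc
  rw [F.theta_mul_right x he he]
  exact mul_self_mem_sqImage (F.theta_sq x he)

theorem map_four {y : X} (hy : y ∈ sqImage (sqImage D)) : α y ∈ sqImage (sqImage D) :=
  sqImage_map (fun _ h => F.map_sq h) y hy

theorem mem_four_of_map {y : X} (hy : y ∈ D) (h : α y ∈ sqImage (sqImage D)) :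
    y ∈ sqImage (sqImage D) := by
  rw [← F.cube hy]
  exact F.map_four (F.map_four h)

/-- Square roots in `D` of elements of `D⁴` lie in `D²`. -/
theorem mem_sq_of_sq_mem_four {y : X} (hy : y ∈ D) (h : y * y ∈ sqImage (sqImage D)) :
    y ∈ sqImage D := by
  obtain ⟨w, hw, hwy⟩ := (mem_sqImage fun a ha b hb =>
    F.comm a (sqImage_le D ha) b (sqImage_le D hb)).mp h
  have hwD := sqImage_le D hw
  have hy1 : y * w⁻¹ ∈ invCenter X := by
    refine F.omega _ (mul_mem hy (inv_mem hwD)) ?_
    rw [(show Commute w⁻¹ y from F.comm _ (inv_mem hwD) _ hy).mul_mul_mul_comm, ← hwy]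
    group
  have := mul_mem (F.invCenter_le_sq hy1) hw
  rwa [inv_mul_cancel_right] at this

/-- The sum of the conjugates of `theta x`. -/
theorem trace_mem (x : X) {d : X} (hd : d ∈ D) :
    theta x d * α (theta x (α (α d))) * α (α (theta x (α d))) ∈ sqImage (sqImage D) := by
  classical
  have hD4 : (sqImage (sqImage D)).Normal := sqImage_normal (sqImage_normal F.normal)
  set π := QuotientGroup.mk' (sqImage (sqImage D)) with hπ
  have hπ1 : ∀ y, π y = 1 ↔ y ∈ sqImage (sqImage D) := fun y => QuotientGroup.eq_one_iff y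
  have hcomm : ∀ a ∈ D, ∀ b ∈ D, Commute (π a) (π b) := fun a ha b hb =>
    (show Commute a b from F.comm a ha b hb).map π
  let S : X → X → X := fun x d => theta x d * α (theta x (α (α d))) * α (α (theta x (α d)))
  have hmul : ∀ x y, ∀ d ∈ D, π (S (x * y) d) = π (S y d) * π (S x d) := by
    intro x y d hd
    have h1 := F.map_mem hd
    have h2 := F.map_mem h1
    have e0 : ∀ e ∈ D, π (theta x (theta y e)) = 1 := fun e he =>
      (hπ1 _).mpr (F.theta_four x (F.theta_sq y he))
    have e1 : π (α (theta x (theta y (α (α d))))) = 1 :=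
      (hπ1 _).mpr (F.map_four (F.theta_four x (F.theta_sq y h2)))
    have e2 : π (α (α (theta x (theta y (α d))))) = 1 :=
      (hπ1 _).mpr (F.map_four (F.map_four (F.theta_four x (F.theta_sq y h1))))
    simp only [S, theta_mul_left, map_mul, e0 d hd, e1, e2, one_mul]
    have my0 := F.theta_mem y hd
    have mx0 := F.theta_mem x hd
    have my1 := F.map_mem (F.theta_mem y h2)
    have mx1 := F.map_mem (F.theta_mem x h2)
    have my2 := F.map_mem (F.map_mem (F.theta_mem y h1))
    have mx2 := F.map_mem (F.map_mem (F.theta_mem x h1))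
    rw [(hcomm _ mx0 _ my1).mul_mul_mul_comm, ← map_mul π (theta y d), ← map_mul π (theta x d),
      (hcomm _ (mul_mem mx0 mx1) _ my2).mul_mul_mul_comm]
  let K : Subgroup X :=
    { carrier := {x | ∀ d ∈ D, π (S x d) = 1}
      one_mem' := fun d _ => by simp [S, theta]
      mul_mem' := fun {a b} ha hb d hd => by rw [hmul a b d hd, ha d hd, hb d hd, one_mul]
      inv_mem' := fun {a} ha d hd => by
        have h := hmul a a⁻¹ d hd
        rw [mul_inv_cancel, ha d hd, mul_one] at h
        rw [← h]
        simp [S, theta] }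
  have hK : K = ⊤ := by
    refine F.gen K fun φ hφ x d hd => ?_
    have hS : S (φ x) d = S x d := by
      have h1 := F.map_mem hd
      have h2 := F.map_mem h1
      have c0 := F.cube hd
      have m0 := F.theta_mem x hd
      have m1 := F.map_mem (F.theta_mem x h2)
      have m2 := F.map_mem (F.map_mem (F.theta_mem x h1))
      rcases F.agree hφ with hag | hag | hag
      · have : ∀ e ∈ D, theta (φ x) e = theta x e := fun e he => by
          conv_lhs => rw [← hag e he]
          rw [theta_map, hag _ (F.theta_mem x he)]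
        simp only [S, this _ hd, this _ h1, this _ h2]
      · have : ∀ e ∈ D, theta (φ x) e = α (theta x (α (α e))) := fun e he => by
          conv_lhs => rw [← F.cube he, ← hag _ (F.map_mem (F.map_mem he))]
          rw [theta_map, hag _ (F.theta_mem x (F.map_mem (F.map_mem he)))]
        simp only [S, this _ hd, this _ h1, this _ h2, c0]
        rw [F.cube (F.theta_mem x hd), F.comm _ (mul_mem m1 m2) _ m0, ← mul_assoc]
      · have : ∀ e ∈ D, theta (φ x) e = α (α (theta x (α e))) := fun e he => by
          conv_lhs => rw [← F.cube he, ← hag _ (F.map_mem he)]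
          rw [theta_map, hag _ (F.theta_mem x (F.map_mem he))]
        simp only [S, this _ hd, this _ h1, this _ h2, c0]
        rw [F.cube (F.theta_mem x hd), F.cube (F.theta_mem x h2)]
        rw [F.comm _ m2 _ m0, mul_assoc, F.comm _ m2 _ m1, ← mul_assoc]
    have h := hmul x (x⁻¹ * φ x) d hd
    rw [mul_inv_cancel_left, hS] at h
    exact mul_eq_right.mp h.symm
  exact (hπ1 _).mp ((hK ▸ mem_top x : x ∈ K) d hd)

/-- `theta x` is zero or injective on `D / D²`, modulo `D⁴`. -/
theorem theta_zero_of_kernel (x : X) {d : X} (hd : d ∈ D) (hd2 : d ∉ sqImage D)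
    (h : theta x d ∈ sqImage (sqImage D)) {e : X} (he : e ∈ D) :
    theta x e ∈ sqImage (sqImage D) := by
  set D4 := sqImage (sqImage D) with hD4
  have h1 := F.map_mem hd
  have h2 := F.map_mem h1
  have hf := F.theta_mem x h1
  have hn : theta x d * theta x (α d) * theta x (α (α d)) = 1 := by
    rw [← F.theta_mul_right x hd h1, ← F.theta_mul_right x (mul_mem hd h1) h2, F.norm_eq_one hd,
      theta_one_right]
  set f := theta x (α d) with hfdef
  have hg : theta x (α (α d)) = (theta x d * f)⁻¹ := eq_inv_of_mul_eq_one_right hn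
  have ht := F.trace_mem x hd
  rw [← hfdef, hg, mul_inv_rev, map_mul, map_inv, map_inv] at ht
  have m0 := F.theta_mem x hd
  have hfa : f⁻¹ * α f ∈ D4 := by
    refine F.mem_four_of_map (mul_mem (inv_mem hf) (F.map_mem hf)) ?_
    rw [map_mul, map_inv]
    rw [F.comm _ (inv_mem (F.map_mem hf)) _ (inv_mem (F.map_mem m0)), ← mul_assoc, mul_assoc] at ht
    exact (D4.mul_mem_cancel_left (mul_mem h (inv_mem (F.map_four h)))).mp ht
  obtain ⟨c, hc, hcf⟩ := (mem_sqImage F.comm).mp (F.theta_sq x h1)
  have hcf' : c * c = f := hcf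
  have hcc : c⁻¹ * α c ∈ sqImage D := by
    refine F.mem_sq_of_sq_mem_four (mul_mem (inv_mem hc) (F.map_mem hc)) ?_
    rw [(show Commute (α c) c⁻¹ from F.comm _ (F.map_mem hc) _ (inv_mem hc)).mul_mul_mul_comm,
      ← map_mul, ← mul_inv_rev, hcf']
    exact hfa
  have hcs : c ∈ sqImage D := F.mem_sq_of_alpha hc (by
    have := mul_mem (mul_self_mem_sqImage hc) hcc
    rwa [mul_assoc, mul_inv_cancel_left, F.comm _ hc _ (F.map_mem hc)] at this)
  have hf4 : f ∈ D4 := hcf' ▸ mul_self_mem_sqImage hcs
  have hg4 : theta x (α (α d)) ∈ D4 := hg ▸ inv_mem (mul_mem h hf4)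
  have key : ∀ r, r ∈ D → theta x r ∈ D4 → e * r ∈ sqImage D → theta x e ∈ D4 := by
    intro r hr hr4 her
    have := F.theta_four x her
    rw [F.theta_mul_right x he hr] at this
    exact (D4.mul_mem_cancel_right hr4).mp this
  rcases F.mem_sq_cases_alpha hd hd2 he with hc' | hc' | hc' | hc'
  · exact F.theta_four x hc'
  · exact key d hd h hc'
  · exact key _ h1 hf4 hc'
  · exact key _ h2 hg4 hc'

end Frame

end CfsgLib.OddAutTwoGroup
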