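import Cfsg.Prelude.Def_Transfer
import Cfsg.Agent.LocalEvenBasic.DStar
import Cfsg.Agent.Solvable.Nilpotent
import Mathlib.GroupTheory.Abelianization.Defs

/-!
# Groups of odd-order automorphisms `A` of a 2-group `X` with `[X, A] = X`

The setting (`Setting`): no normal elementary abelian subgroup of order `> 4`, and every subgroup
containing all `x⁻¹ φ(x)` is the whole group. First consequences, and the action on a four-group.
-/

set_option autoImplicit false

open Subgroup

namespace CfsgLib.OddAutTwoGroup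

variable {X : Type*} [Group X] [Finite X]

/-- The hypotheses. -/
structure Setting (A : Subgroup (MulAut X)) : Prop where
  /-- `X` is a 2-group. -/
  pg : IsPGroup 2 X
  /-- `A` has odd order. -/
  odd : Odd (Nat.card A)
  /-- `X` has no normal elementary abelian subgroup of order more than four. -/
  rank : ∀ N : Subgroup X, N.Normal → Cfsg.IsElementaryAbelian 2 N → Nat.card N ≤ 4
  /-- `[X, A] = X`. -/
  gen : ∀ K : Subgroup X, (∀ φ ∈ A, ∀ x, x⁻¹ * φ x ∈ K) → K = ⊤

/-- The central elements of order at most two. -/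
def invCenter (X : Type*) [Group X] : Subgroup X where
  carrier := {z | z ∈ center X ∧ z * z = 1}
  one_mem' := ⟨one_mem _, one_mul 1⟩
  mul_mem' := fun {a b} ha hb => ⟨mul_mem ha.1 hb.1, by
    rw [(show Commute b a from (mem_center_iff.mp hb.1 a).symm).mul_mul_mul_comm, ha.2, hb.2,
      one_mul]⟩
  inv_mem' := fun {a} ha => ⟨inv_mem ha.1, by rw [← mul_inv_rev, ha.2, inv_one]⟩

omit [Finite X] in
theorem mem_invCenter {z : X} : z ∈ invCenter X ↔ z ∈ center X ∧ z * z = 1 := Iff.rfl

omit [Finite X] in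
theorem invCenter_comm {z : X} (hz : z ∈ invCenter X) (g : X) : g * z = z * g :=
  mem_center_iff.mp hz.1 g

omit [Finite X] in
theorem invCenter_inv {z : X} (hz : z ∈ invCenter X) : z⁻¹ = z :=
  inv_eq_of_mul_eq_one_right hz.2

omit [Finite X] in
theorem invCenter_normal : (invCenter X).Normal :=
  ⟨fun z hz g => by rwa [invCenter_comm hz g, mul_inv_cancel_right]⟩

omit [Finite X] in
theorem invCenter_map (φ : MulAut X) {z : X} (hz : z ∈ invCenter X) : φ z ∈ invCenter X := by
  refine ⟨mem_center_iff.mpr fun g => ?_, by rw [← map_mul, hz.2, map_one]⟩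
  obtain ⟨g, rfl⟩ := φ.surjective g
  rw [← map_mul, ← map_mul, invCenter_comm hz g]

omit [Finite X] in
theorem invCenter_isElementaryAbelian : Cfsg.IsElementaryAbelian 2 (invCenter X) :=
  ⟨⟨⟨fun a b => Subtype.ext (invCenter_comm b.2 a)⟩⟩, fun a ha => by rw [pow_two]; exact ha.2⟩

theorem exists_comm_mem (hX : IsPGroup 2 X) {K N : Subgroup X} [K.Normal] [N.Normal]
    (h : ¬ N ≤ K) : ∃ n ∈ N, n ∉ K ∧ n * n ∈ K ∧ ∀ g : X, g * n * g⁻¹ * n⁻¹ ∈ K := by
  have : Fact (Nat.Prime 2) := ⟨Nat.prime_two⟩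
  set π := QuotientGroup.mk' K with hπ
  have hne : N.map π ≠ ⊥ := by
    rwa [Ne, Subgroup.map_eq_bot_iff, QuotientGroup.ker_mk']
  have : (N.map π).Normal := Normal.map inferInstance _ (QuotientGroup.mk'_surjective K)
  obtain ⟨z, hz, hz1⟩ :=
    LocalEvenBasic.exists_mem_center_of_normal (hX.to_quotient K) (N.map π) hne
  obtain ⟨k, hk⟩ := IsPGroup.iff_orderOf.mp (hX.to_quotient K) z
  obtain ⟨j, rfl⟩ : ∃ j, k = j + 1 := by
    rcases k with - | j
    · exact absurd (orderOf_eq_one_iff.mp (by simpa using hk)) hz1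
    · exact ⟨j, rfl⟩
  have hw : z ^ 2 ^ j ∈ N.map π ⊓ center (X ⧸ K) := pow_mem hz _
  have hw1 : z ^ 2 ^ j ≠ 1 :=
    pow_ne_one_of_lt_orderOf (pow_ne_zero _ two_ne_zero) (by
      rw [hk]; exact Nat.pow_lt_pow_right one_lt_two (Nat.lt_succ_self j))
  have hw2 : z ^ 2 ^ j * z ^ 2 ^ j = 1 := by
    rw [← pow_add, ← two_mul, ← pow_succ', ← hk, pow_orderOf_eq_one]
  obtain ⟨⟨n, hn, hnz⟩, hc⟩ := mem_inf.mp hw
  rw [← hnz] at hw1 hw2 hc
  refine ⟨n, hn, fun h => hw1 ((QuotientGroup.eq_one_iff n).mpr h),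
    (QuotientGroup.eq_one_iff _).mp (by rw [← hw2]; rfl), fun g => ?_⟩
  refine (QuotientGroup.eq_one_iff _).mp ?_
  show π g * π n * (π g)⁻¹ * (π n)⁻¹ = 1
  rw [mem_center_iff.mp hc (π g), mul_inv_cancel_right, mul_inv_cancel]

namespace Setting

variable {A : Subgroup (MulAut X)} (h : Setting A)
include h

omit [Finite X] in
theorem eq_top_of_invariant_fun {β : Type*} (f : X → β) (K : Subgroup X)
    (hK : ∀ x y, f x = f y → x⁻¹ * y ∈ K) (hf : ∀ φ ∈ A, ∀ x, f (φ x) = f x) : K = ⊤ :=
  h.gen K fun φ hφ x => hK _ _ (hf φ hφ x).symm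

theorem odd_orderOf {φ : MulAut X} (hφ : φ ∈ A) : Odd (orderOf φ) :=
  Odd.of_dvd_nat h.odd (orderOf_dvd_natCard A hφ)

/-- A subgroup element centralised by `A` is central, if its conjugates are centralised. -/
theorem mem_center_of_fixed {b : X} (hfix : ∀ φ ∈ A, ∀ g : X, φ (g * b * g⁻¹) = g * b * g⁻¹) :
    b ∈ center X := by
  have htop : centralizer ({b} : Set X) = ⊤ := h.gen _ fun φ hφ x => by
    rw [mem_centralizer_singleton_iff]
    have h1 := hfix φ hφ x
    have h2 : φ b = b := by simpa using hfix φ hφ 1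
    rw [map_mul, map_mul, map_inv, h2] at h1
    calc x⁻¹ * φ x * b = x⁻¹ * (φ x * b * (φ x)⁻¹) * φ x := by group
      _ = b * (x⁻¹ * φ x) := by rw [h1]; group
  refine mem_center_iff.mpr fun g => ?_
  exact mem_centralizer_singleton_iff.mp (htop ▸ mem_top g)

/-- Points fixed by `A` modulo the derived subgroup lie in it. -/
theorem mem_commutator_of_fixed_abelianization {y : X}
    (hy : ∀ φ ∈ A, Abelianization.of (φ y) = Abelianization.of y) : y ∈ commutator X := by
  classical
  have : Fintype A := Fintype.ofFinite A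
  let N : X →* Abelianization X :=
    { toFun := fun x => ∏ φ : A, Abelianization.of ((φ : MulAut X) x)
      map_one' := by simp
      map_mul' := fun a b => by simp [Finset.prod_mul_distrib] }
  have hinv : ∀ ψ ∈ A, ∀ x, N (ψ x) = N x := fun ψ hψ x =>
    Fintype.prod_equiv (Equiv.mulRight ⟨ψ, hψ⟩) _ _ fun φ => rfl
  have htop := h.eq_top_of_invariant_fun N N.ker
    (fun a b hab => by rw [MonoidHom.mem_ker, map_mul, map_inv, hab, inv_mul_cancel]) hinv
  have h1 : N y = 1 := MonoidHom.mem_ker.mp (htop ▸ mem_top y)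
  have h2 : Abelianization.of y ^ Nat.card A = 1 := by
    rw [← h1]
    show _ = ∏ φ : A, Abelianization.of ((φ : MulAut X) y)
    rw [Finset.prod_congr rfl (fun (φ : A) _ => hy φ φ.2), Finset.prod_const,
      Finset.card_univ, Nat.card_eq_fintype_card]
  obtain ⟨k, hk⟩ := h.pg y
  have h3 : Abelianization.of y ^ 2 ^ k = 1 := by rw [← map_pow, hk, map_one]
  have h4 := pow_gcd_eq_one.mpr ⟨h2, h3⟩
  rw [Nat.Coprime.gcd_eq_one ((Nat.coprime_two_right.mpr h.odd).pow_right k), pow_one] at h4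
  rwa [← Abelianization.ker_of, MonoidHom.mem_ker]

/-- The fixed points of `A` lie in the derived subgroup. -/
theorem mem_commutator_of_fixed {y : X} (hy : ∀ φ ∈ A, φ y = y) : y ∈ commutator X :=
  h.mem_commutator_of_fixed_abelianization fun φ hφ => by rw [hy φ hφ]

/-- An automorphism in `A` fixing the involutions of an invariant abelian subgroup fixes it. -/
theorem fix_of_fix_omega {D : Subgroup X} (hD : ∀ a ∈ D, ∀ b ∈ D, a * b = b * a)
    {φ : MulAut X} (hφA : φ ∈ A) (hφ : ∀ d ∈ D, φ d ∈ D)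
    (h2 : ∀ d ∈ D, d * d = 1 → φ d = d) {d : X} (hd : d ∈ D) : φ d = d := by
  suffices ∀ k, ∀ d ∈ D, d ^ 2 ^ k = 1 → φ d = d by
    obtain ⟨k, hk⟩ := h.pg d
    exact this k d hd hk
  intro k
  induction k with
  | zero => exact fun d _ hk => by rw [pow_zero, pow_one] at hk; rw [hk, map_one]
  | succ k ih =>
    intro d hd hk
    have hsq : φ (d * d) = d * d := ih _ (mul_mem hd hd) (by
      rw [← pow_two, ← pow_mul, ← pow_succ']; exact hk)
    set e := φ d * d⁻¹ with he
    have heD : e ∈ D := mul_mem (hφ d hd) (inv_mem hd)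
    have hee : e * e = 1 := by
      have hc : Commute (φ d) d⁻¹ := hD _ (hφ d hd) _ (inv_mem hd)
      rw [he, hc.symm.mul_mul_mul_comm, ← map_mul, hsq]
      group
    have hpow : ∀ n : ℕ, (φ ^ n) d = e ^ n * d := by
      intro n
      induction n with
      | zero => simp
      | succ n ihn =>
        rw [pow_succ', MulAut.mul_apply, ihn, map_mul, map_pow, h2 e heD hee, pow_succ, mul_assoc,
          he, inv_mul_cancel_right]
    have hfin := hpow (orderOf φ)
    obtain ⟨m, hm⟩ := h.odd_orderOf hφA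
    rw [pow_orderOf_eq_one, MulAut.one_apply, hm, pow_succ, pow_mul, pow_two, hee, one_pow,
      one_mul, he, inv_mul_cancel_right] at hfin
    exact hfin.symm

/-- An element of `A` moving some nontrivial `u` of an invariant subgroup of order at most four
permutes the three nontrivial elements cyclically. -/
theorem orbit {E : Subgroup X} (hE : Nat.card E ≤ 4) {φ : MulAut X} (hφA : φ ∈ A)
    (hφ : ∀ e ∈ E, φ e ∈ E) {u : X} (hu : u ∈ E) (hu1 : u ≠ 1) (hmove : φ u ≠ u) :
    φ (φ (φ u)) = u ∧ (∀ e ∈ E, e = 1 ∨ e = u ∨ e = φ u ∨ e = φ (φ u)) ∧ Nat.card E = 4 ∧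
      φ (φ u) ≠ u := by
  classical
  have h1 : φ u ≠ 1 := by rwa [Ne, map_eq_one_iff φ φ.injective]
  have h2 : φ (φ u) ≠ 1 := by rwa [Ne, map_eq_one_iff φ φ.injective]
  have h21 : φ (φ u) ≠ φ u := fun he => hmove (φ.injective he)
  have h20 : φ (φ u) ≠ u := by
    intro he
    obtain ⟨m, hm⟩ := h.odd_orderOf hφA
    have key : ∀ j : ℕ, (φ ^ (2 * j)) u = u := by
      intro j
      induction j with
      | zero => simp
      | succ j ih =>
        rw [show 2 * (j + 1) = 2 + 2 * j from by ring, pow_add, MulAut.mul_apply, ih, pow_two,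
          MulAut.mul_apply, he]
    have := congrArg (fun ψ : MulAut X => ψ u) (pow_orderOf_eq_one φ)
    simp only [hm, pow_succ', MulAut.mul_apply, key, MulAut.one_apply] at this
    exact hmove this
  let S : Finset E := {⟨1, one_mem E⟩, ⟨u, hu⟩, ⟨φ u, hφ u hu⟩, ⟨φ (φ u), hφ _ (hφ u hu)⟩}
  have hS : S.card = 4 := by
    simp [S, Finset.card_insert_of_notMem, Ne.symm hu1, Ne.symm h1, Ne.symm h2, Ne.symm hmove,
      Ne.symm h20, Ne.symm h21]
  have : Fintype E := Fintype.ofFinite E
  rw [Nat.card_eq_fintype_card] at hE ⊢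
  have hSu : S = Finset.univ := Finset.eq_univ_of_card S
    (le_antisymm (Finset.card_le_univ S) (hS ▸ hE))
  have hall : ∀ e ∈ E, e = 1 ∨ e = u ∨ e = φ u ∨ e = φ (φ u) := by
    intro e he
    have := hSu ▸ Finset.mem_univ (⟨e, he⟩ : E)
    simpa [S, Subtype.ext_iff] using this
  refine ⟨?_, hall, by rw [← Finset.card_univ, ← hSu, hS], h20⟩
  rcases hall _ (hφ _ (hφ _ (hφ u hu))) with h' | h' | h' | h'
  · exact absurd ((map_eq_one_iff φ φ.injective).mp h') h2
  · exact h'
  · exact absurd (φ.injective h') h20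
  · exact absurd (φ.injective h') h21

theorem card_invCenter_le : Nat.card (invCenter X) ≤ 4 :=
  h.rank _ invCenter_normal invCenter_isElementaryAbelian

end Setting

end CfsgLib.OddAutTwoGroup
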