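import Cfsg.Agent.OddAutTwoGroup.ExponentFour

/-!
# Commutators are central involutions
-/

set_option autoImplicit false

open Subgroup

namespace CfsgLib.OddAutTwoGroup

variable {X : Type*} [Group X] [Finite X] {A : Subgroup (MulAut X)}

/-- A critical pair: `D ≥ Z(X)` normal abelian invariant, containing the centraliser of
`C = {c ∈ C(D) : [X, c] ⊆ D, c² ∈ D}`. -/
theorem Setting.exists_critical (h : Setting A) : ∃ D : Subgroup X, D.Normal ∧
    (∀ a ∈ D, ∀ b ∈ D, a * b = b * a) ∧ (∀ φ ∈ A, ∀ d ∈ D, φ d ∈ D) ∧ center X ≤ D ∧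
    ∀ x, (∀ c, (∀ d ∈ D, c * d = d * c) → (∀ g : X, g * c * g⁻¹ * c⁻¹ ∈ D) → c * c ∈ D →
      x * c = c * x) → x ∈ D := by
  set s : Set (Subgroup X) := {D | D.Normal ∧ (∀ a ∈ D, ∀ b ∈ D, a * b = b * a) ∧
    (∀ φ ∈ A, ∀ d ∈ D, φ d ∈ D) ∧ center X ≤ D} with hs
  obtain ⟨D, hD⟩ := Set.Finite.exists_maximal (s := s) (Set.toFinite s)
    ⟨center X, inferInstance, fun a ha b hb => (mem_center_iff.mp hb a), fun φ _ d hd => by
      refine mem_center_iff.mpr fun g => ?_
      obtain ⟨g, rfl⟩ := φ.surjective g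
      rw [← map_mul, ← map_mul, mem_center_iff.mp hd g], le_rfl⟩
  obtain ⟨hn, hc, hinv, hZ⟩ := hD.prop
  refine ⟨D, hn, hc, hinv, hZ, ?_⟩
  -- the centraliser of `C`
  let P : X → Prop := fun c =>
    (∀ d ∈ D, c * d = d * c) ∧ (∀ g : X, g * c * g⁻¹ * c⁻¹ ∈ D) ∧ c * c ∈ D
  have hPconj : ∀ c, P c → ∀ g, P (g * c * g⁻¹) := by
    intro c ⟨h1, h2, h3⟩ g
    refine ⟨fun d hd => ?_, fun k => ?_, ?_⟩
    · have := congrArg (fun z => g * z * g⁻¹) (h1 _ (hn.conj_mem d hd g⁻¹))
      simpa [mul_assoc] using this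
    · rw [show k * (g * c * g⁻¹) * k⁻¹ * (g * c * g⁻¹)⁻¹ =
        ((k * g) * c * (k * g)⁻¹ * c⁻¹) * (g * c * g⁻¹ * c⁻¹)⁻¹ by group]
      exact mul_mem (h2 _) (inv_mem (h2 g))
    · rw [show g * c * g⁻¹ * (g * c * g⁻¹) = g * (c * c) * g⁻¹ by group]
      exact hn.conj_mem _ h3 g
  have hPaut : ∀ c, P c → ∀ φ ∈ A, P (φ⁻¹ c) := by
    intro c ⟨h1, h2, h3⟩ φ hφ
    refine ⟨fun d hd => φ.injective ?_, fun g => ?_, ?_⟩
    · rw [map_mul, map_mul, MulAut.apply_inv_self]; exact h1 _ (hinv φ hφ d hd)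
    · have h4 := hinv _ (inv_mem hφ) _ (h2 (φ g))
      rwa [map_mul, map_mul, map_mul, map_inv, map_inv, MulAut.inv_apply_self] at h4
    · rw [← map_mul]; exact hinv _ (inv_mem hφ) _ h3
  let N : Subgroup X :=
    { carrier := {x | ∀ c, P c → x * c = c * x}
      one_mem' := fun c _ => by rw [one_mul, mul_one]
      mul_mem' := fun {a b} ha hb c hc => by
        rw [mul_assoc, hb c hc, ← mul_assoc, ha c hc, mul_assoc]
      inv_mem' := fun {a} ha c hc => by
        rw [inv_mul_eq_iff_eq_mul, ← mul_assoc, eq_mul_inv_iff_mul_eq, ha c hc] }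
  have hDN : D ≤ N := fun d hd c hc => (hc.1 d hd).symm
  have hNn : N.Normal := ⟨fun x hx g c hc => by
    have := congrArg (fun z => g * z * g⁻¹) (hx _ (hPconj c hc g⁻¹))
    simpa [mul_assoc] using this⟩
  -- `N ∩ C = D`
  have hmax : ∀ x ∈ N, P x → x ∈ D := by
    let D' : Subgroup X :=
      { carrier := {x | x ∈ N ∧ P x}
        one_mem' := ⟨one_mem N, fun d _ => by rw [one_mul, mul_one], fun g => by simp,
          by simp⟩
        mul_mem' := fun {a b} ⟨ha, a1, a2, a3⟩ ⟨hb, b1, b2, b3⟩ =>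
          ⟨mul_mem ha hb, fun d hd => by rw [mul_assoc, b1 d hd, ← mul_assoc, a1 d hd, mul_assoc],
            fun g => by
              rw [show g * (a * b) * g⁻¹ * (a * b)⁻¹ =
                (g * a * g⁻¹ * a⁻¹) * (a * (g * b * g⁻¹ * b⁻¹) * a⁻¹) by group]
              exact mul_mem (a2 g) (hn.conj_mem _ (b2 g) a),
            by
              rw [(show Commute b a from hb a ⟨a1, a2, a3⟩).mul_mul_mul_comm]
              exact mul_mem a3 b3⟩
        inv_mem' := fun {a} ⟨ha, a1, a2, a3⟩ =>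
          ⟨inv_mem ha, fun d hd => by
            rw [inv_mul_eq_iff_eq_mul, ← mul_assoc, eq_mul_inv_iff_mul_eq, a1 d hd],
            fun g => by
              rw [show g * a⁻¹ * g⁻¹ * a⁻¹⁻¹ = a⁻¹ * (a * (g * a⁻¹ * g⁻¹)) * a by group]
              have := hn.conj_mem _ (inv_mem (a2 g)) a⁻¹
              rwa [inv_inv, show (g * a * g⁻¹ * a⁻¹)⁻¹ = a * (g * a⁻¹ * g⁻¹) by group] at this,
            by rw [← mul_inv_rev]; exact inv_mem a3⟩ }
    have hD's : D' ∈ s := by
      refine ⟨⟨fun x hx g => ⟨hNn.conj_mem x hx.1 g, hPconj x hx.2 g⟩⟩,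
        fun a ha b hb => ha.1 b hb.2, fun φ hφ x hx => ⟨fun c hc => ?_, ?_⟩,
        fun z hz => ⟨hDN (hZ hz), fun d _ => ((mem_center_iff.mp hz d).symm), fun g => by
          rw [mem_center_iff.mp hz g, mul_inv_cancel_right, mul_inv_cancel]; exact one_mem D,
          mul_mem (hZ hz) (hZ hz)⟩⟩
      · have := congrArg φ (hx.1 _ (hPaut c hc φ hφ))
        rwa [map_mul, map_mul, MulAut.apply_inv_self] at this
      · have := hPaut x hx.2 φ⁻¹ (inv_mem hφ)
        rwa [inv_inv] at this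
    have hle : D ≤ D' := fun d hd => ⟨hDN hd, fun e he => hc d hd e he,
      fun g => mul_mem (hn.conj_mem d hd g) (inv_mem hd), mul_mem hd hd⟩
    exact fun x hx hP => hD.le_of_ge hD's hle ⟨hx, hP⟩
  intro x hx
  have hxN : x ∈ N := fun c hc => hx c hc.1 hc.2.1 hc.2.2
  by_contra hxD
  obtain ⟨n, hnN, hnD, hn2, hnc⟩ := exists_comm_mem h.pg (K := D) (N := N) fun hle => hxD (hle hxN)
  refine hnD (hmax n hnN ⟨fun d hd => hnN d ⟨fun e he => hc d hd e he,
    fun g => mul_mem (hn.conj_mem d hd g) (inv_mem hd), mul_mem hd hd⟩, hnc, hn2⟩)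

/-- The commutators are central involutions. -/
theorem Setting.comm_mem_invCenter (h : Setting A) :
    ∀ x y : X, x * y * x⁻¹ * y⁻¹ ∈ invCenter X := by
  obtain ⟨D, hn, hc, hinv, hZ, hcr⟩ := h.exists_critical
  by_cases hnc : D ≤ center X
  · -- the central case
    have hcom : ∀ x y, x * y * x⁻¹ * y⁻¹ ∈ center X := by
      refine fun x y => hnc (hcr _ fun c _ h2 _ => ?_)
      have hw : ∀ w, theta w c ∈ center X := fun w => hnc (h2 w)
      let f : X →* center X :=
        { toFun := fun w => ⟨theta w c, hw w⟩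
          map_one' := Subtype.ext (by simp [theta])
          map_mul' := fun a b => Subtype.ext (by
            show theta (a * b) c = theta a c * theta b c
            rw [theta_mul_left, theta_eq_one.mpr (mem_center_iff.mp (hw b) a), one_mul,
              mem_center_iff.mp (hw a) (theta b c)]) }
      have : f (x * y * x⁻¹ * y⁻¹) = 1 := by
        rw [map_mul, map_mul, map_mul, map_inv, map_inv, mul_comm' (f x) (f y),
          mul_inv_cancel_right, mul_inv_cancel]
      exact theta_eq_one.mp (congrArg Subtype.val this)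
    intro x y
    refine ⟨hcom x y, ?_⟩
    have hx2 : x * x ∈ center X := by
      refine hnc (hcr _ fun c _ h2 h3 => ?_)
      have hz : ∀ w, theta w c ∈ center X := fun w => hnc (h2 w)
      refine theta_eq_one.mp ?_
      rw [theta_mul_left, theta_eq_one.mpr (mem_center_iff.mp (hz x) x), one_mul]
      have e : theta x (c * c) = theta x c * theta x c := by
        calc theta x (c * c) = theta x c * (c * theta x c) * c⁻¹ := by simp only [theta]; group
          _ = _ := by rw [mem_center_iff.mp (hz x) c]; group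
      rw [← e]
      exact theta_eq_one.mpr (mem_center_iff.mp (hnc h3) x)
    set z := x * y * x⁻¹ * y⁻¹
    have hz : ∀ g : X, g * z = z * g := mem_center_iff.mp (hcom x y)
    have e1 : x * y = z * y * x := by simp only [z]; group
    clear_value z
    have e2 : x * x * y = z * z * (y * (x * x)) := by
      calc x * x * y = (x * z) * y * x := by rw [mul_assoc, e1]; group
        _ = z * (x * y) * x := by rw [hz x]; group
        _ = _ := by rw [e1]; group
    rw [mem_center_iff.mp hx2 y] at e2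
    exact mul_eq_right.mp e2.symm
  -- the noncentral case
  obtain ⟨α, hαA, d₁, hd₁, hd₁m⟩ : ∃ α ∈ A, ∃ d ∈ D, α d ≠ d := by
    by_contra hne
    push Not at hne
    exact hnc fun d hd => h.mem_center_of_fixed fun φ hφ g => hne φ hφ _ (hn.conj_mem d hd g)
  obtain ⟨u, hu, hu2, hum⟩ : ∃ u ∈ D, u * u = 1 ∧ α u ≠ u := by
    by_contra hne
    push Not at hne
    exact hd₁m (h.fix_of_fix_omega hc hαA (hinv α hαA) (fun e he he2 => hne e he he2) hd₁)
  -- the involutions of `D`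
  let Ω : Subgroup X :=
    { carrier := {d | d ∈ D ∧ d * d = 1}
      one_mem' := ⟨one_mem D, one_mul 1⟩
      mul_mem' := fun {a b} ha hb => ⟨mul_mem ha.1 hb.1, by
        rw [(show Commute b a from hc b hb.1 a ha.1).mul_mul_mul_comm, ha.2, hb.2, one_mul]⟩
      inv_mem' := fun {a} ha => ⟨inv_mem ha.1, by rw [← mul_inv_rev, ha.2, inv_one]⟩ }
  have hΩn : Ω.Normal := ⟨fun d hd g => ⟨hn.conj_mem d hd.1 g, by
    rw [show g * d * g⁻¹ * (g * d * g⁻¹) = g * (d * d) * g⁻¹ by group, hd.2, mul_one,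
      mul_inv_cancel]⟩⟩
  have hΩe : Cfsg.IsElementaryAbelian 2 Ω :=
    ⟨⟨⟨fun a b => Subtype.ext (hc _ a.2.1 _ b.2.1)⟩⟩, fun a ha => by rw [pow_two]; exact ha.2⟩
  have hΩα : ∀ e ∈ Ω, α e ∈ Ω := fun e he =>
    ⟨hinv α hαA e he.1, by rw [← map_mul, he.2, map_one]⟩
  have hu1 : u ≠ 1 := fun e => hum (by rw [e, map_one])
  obtain ⟨h3, hall, -, -⟩ := h.orbit (h.rank Ω hΩn hΩe) hαA hΩα (u := u) ⟨hu, hu2⟩ hu1 hum
  have hnΩ : ¬ Ω ≤ (⊥ : Subgroup X) := fun hle => hu1 (mem_bot.mp (hle ⟨hu, hu2⟩))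
  obtain ⟨z, hzΩ, hz1, -, hzc⟩ := exists_comm_mem h.pg hnΩ
  rw [mem_bot] at hz1
  have hcen : ∀ e, (∀ g : X, g * e = e * g) → ∀ g : X, g * α e = α e * g := fun e he g => by
    obtain ⟨g, rfl⟩ := α.surjective g
    rw [← map_mul, ← map_mul, he g]
  have hzg : ∀ g : X, g * z = z * g := fun g =>
    mul_inv_eq_iff_eq_mul.mp (mul_inv_eq_one.mp (mem_bot.mp (hzc g)))
  have huc : ∀ g : X, g * u = u * g := by
    rcases hall z hzΩ with rfl | rfl | rfl | rfl
    · exact absurd rfl hz1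
    · exact hzg
    · intro g
      have := hcen _ (hcen _ hzg) g
      rwa [h3] at this
    · intro g
      have := hcen _ hzg g
      rwa [h3] at this
  have hΩc : ∀ e ∈ Ω, e ∈ invCenter X := fun e he => by
    refine ⟨mem_center_iff.mpr fun g => ?_, he.2⟩
    rcases hall e he with rfl | rfl | rfl | rfl
    · rw [mul_one, one_mul]
    · exact huc g
    · exact hcen _ huc g
    · exact hcen _ (hcen _ huc) g
  have F : Frame A D α :=
    { toSetting := h
      normal := hn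
      comm := hc
      inv := hinv
      mem := hαA
      omega := fun d hd hd2 => hΩc d ⟨hd, hd2⟩
      sub := fun e he => hZ he.1
      moves := ⟨u, hΩc u ⟨hu, hu2⟩, hum⟩
      ne := fun hle => hnc fun d hd => (hle hd).1 }
  -- `C = D`
  let C : Subgroup X :=
    { carrier := {c | (∀ d ∈ D, c * d = d * c) ∧ (∀ g : X, g * c * g⁻¹ * c⁻¹ ∈ D) ∧ c * c ∈ D}
      one_mem' := ⟨fun d _ => by rw [one_mul, mul_one], fun g => by simp, by simp⟩
      mul_mem' := fun {a b} ⟨a1, a2, a3⟩ ⟨b1, b2, b3⟩ =>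
        ⟨fun d hd => by rw [mul_assoc, b1 d hd, ← mul_assoc, a1 d hd, mul_assoc],
          fun g => by
            rw [show g * (a * b) * g⁻¹ * (a * b)⁻¹ =
              (g * a * g⁻¹ * a⁻¹) * (a * (g * b * g⁻¹ * b⁻¹) * a⁻¹) by group]
            exact mul_mem (a2 g) (hn.conj_mem _ (b2 g) a),
          by
            rw [show a * b * (a * b) = a * (b * a * b⁻¹ * a⁻¹) * a⁻¹ * (a * a * (b * b)) by group]
            exact mul_mem (hn.conj_mem _ (a2 b) a) (mul_mem a3 b3)⟩
      inv_mem' := fun {a} ⟨a1, a2, a3⟩ =>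
        ⟨fun d hd => by
          rw [inv_mul_eq_iff_eq_mul, ← mul_assoc, eq_mul_inv_iff_mul_eq, a1 d hd],
          fun g => by
            rw [show g * a⁻¹ * g⁻¹ * a⁻¹⁻¹ = a⁻¹ * (a * (g * a⁻¹ * g⁻¹)) * a by group]
            have := hn.conj_mem _ (inv_mem (a2 g)) a⁻¹
            rwa [inv_inv, show (g * a * g⁻¹ * a⁻¹)⁻¹ = a * (g * a⁻¹ * g⁻¹) by group] at this,
          by rw [← mul_inv_rev]; exact inv_mem a3⟩ }
  have hinj : ∀ c ∈ C, c * c ∈ sqImage D → c ∈ D := by
    rintro c ⟨c1, c2, -⟩ hsq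
    obtain ⟨d, hd, hdc⟩ := (mem_sqImage hc).mp hsq
    by_contra hcD
    set t := c * d⁻¹ with htdef
    have ht2 : t * t = 1 := by
      rw [htdef, (show Commute d⁻¹ c from (c1 _ (inv_mem hd)).symm).mul_mul_mul_comm, ← hdc]
      group
    have htD : t ∉ D := fun h' => hcD ((D.mul_mem_cancel_right (inv_mem hd)).mp h')
    refine F.false_of_involution ht2 (fun h' => htD (F.sub h')) fun g => ?_
    have hcd : ∀ e ∈ D, t * e = e * t := fun e he => by
      rw [htdef, mul_assoc, hc _ (inv_mem hd) e he, ← mul_assoc, c1 e he, mul_assoc]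
    have hεD : g * t * g⁻¹ * t⁻¹ ∈ D := by
      rw [htdef, show g * (c * d⁻¹) * g⁻¹ * (c * d⁻¹)⁻¹ =
        (g * c * g⁻¹ * c⁻¹) * (c * (g * d⁻¹ * g⁻¹ * d⁻¹⁻¹) * c⁻¹) by group]
      exact mul_mem (c2 g)
        (hn.conj_mem _ (mul_mem (hn.conj_mem _ (inv_mem hd) g) (inv_mem (inv_mem hd))) c)
    refine F.omega _ hεD ?_
    set ε := g * t * g⁻¹ * t⁻¹ with hε
    calc ε * ε = ε * ε * (t * t) := by rw [ht2, mul_one]
      _ = ε * (t * ε) * t := by rw [hcd ε hεD]; group
      _ = g * (t * t) * g⁻¹ := by rw [hε]; group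
      _ = 1 := by rw [ht2, mul_one, mul_inv_cancel]
  have hCab := F.mul_comm_of_sq (C := C) (fun c hc' d hd => hc'.1 d hd)
    (fun c hc' => ⟨fun d hd => by
        obtain ⟨d', rfl⟩ := α.surjective d
        have hd' : d' ∈ D := by
          have := hinv α⁻¹ (inv_mem hαA) _ hd
          rwa [MulAut.inv_apply_self] at this
        rw [← map_mul, ← map_mul, hc'.1 d' hd'],
      fun g => by
        obtain ⟨g', rfl⟩ := α.surjective g
        rw [← map_inv, ← map_inv, ← map_mul, ← map_mul, ← map_mul]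
        exact F.map_mem (hc'.2.1 g'),
      by rw [← map_mul]; exact F.map_mem hc'.2.2⟩)
    (fun c hc' => hc'.2.2) (fun a _ b hb => hb.2.1 a) hinj
  have hCD : ∀ c ∈ C, c ∈ D := fun c hc' => hcr c fun e e1 e2 e3 => hCab c hc' e ⟨e1, e2, e3⟩
  have hself : ∀ x, (∀ d ∈ D, x * d = d * x) → x ∈ D := fun x hx =>
    hcr x fun c c1 c2 c3 => hx c (hCD c ⟨c1, c2, c3⟩)
  have htop : ∃ x, x ∉ D := by
    by_contra hne
    push Not at hne
    exact hnc fun d hd => mem_center_iff.mpr fun g => hc g (hne g) d hd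
  exact F.comm_mem_invCenter_of_four hself hnc (F.sqImage_sqImage_eq_bot hself htop)

end CfsgLib.OddAutTwoGroup
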