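import Cfsg.Agent.OddAutTwoGroup.Structure
import Mathlib.Combinatorics.Enumerative.DoubleCounting

/-!
# Centre of order four: order 64, three involutions
-/

set_option autoImplicit false

open Subgroup

namespace CfsgLib.OddAutTwoGroup

variable {X : Type*} [Group X] [Finite X] {A : Subgroup (MulAut X)}

/-- The setting with a centre of order four. -/
structure FourData (A : Subgroup (MulAut X)) : Prop extends Setting A where
  /-- The centre has order four. -/
  card_E : Nat.card (invCenter X) = 4
  /-- Squares are central involutions. -/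
  sq : ∀ x : X, x * x ∈ invCenter X
  /-- The centre is elementary. -/
  center_le : center X ≤ invCenter X
  /-- The derived subgroup is the centre. -/
  comm_eq : commutator X = invCenter X

namespace FourData

variable (T : FourData A)
include T

theorem theta_E (x y : X) : theta x y ∈ invCenter X := T.toSetting.theta_mem x y

theorem theta_hom_left (x y g : X) : theta (x * y) g = theta x g * theta y g := by
  rw [theta_mul_left, theta_eq_one.mpr (invCenter_comm (T.theta_E y g) x), one_mul,
    invCenter_comm (T.theta_E x g) (theta y g)]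

theorem theta_swap (x y : X) : theta y x = theta x y := by
  rw [← invCenter_inv (T.theta_E x y)]
  simp only [theta]; group

theorem theta_hom_right (y u v : X) : theta y (u * v) = theta y u * theta y v := by
  rw [T.theta_swap (u * v) y, T.theta_hom_left, T.theta_swap y u, T.theta_swap y v]

theorem theta_self (x : X) : theta x x = 1 := theta_eq_one.mpr rfl

theorem theta_central {x : X} {e : X} (he : e ∈ invCenter X) : theta x e = 1 :=
  theta_eq_one.mpr (invCenter_comm he x)

theorem theta_inv (y u : X) : theta y u⁻¹ = theta y u := by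
  have h := T.theta_hom_right y u u⁻¹
  rw [mul_inv_cancel, theta_one_right] at h
  rw [eq_inv_of_mul_eq_one_right h.symm, invCenter_inv (T.theta_E y u)]

theorem cases4 {a b e : X} (ha : a ∈ invCenter X) (hb : b ∈ invCenter X) (ha1 : a ≠ 1)
    (hb1 : b ≠ 1) (hab : a ≠ b) (he : e ∈ invCenter X) :
    e = 1 ∨ e = a ∨ e = b ∨ e = a * b := by
  classical
  have : Fintype (invCenter X) := Fintype.ofFinite _
  let S : Finset (invCenter X) := {1, ⟨a, ha⟩, ⟨b, hb⟩, ⟨a * b, mul_mem ha hb⟩}
  have hS : S.card = 4 := by
    have n1 : a * b ≠ 1 := fun h => hab (by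
      rw [← invCenter_inv hb]; exact eq_inv_of_mul_eq_one_left h)
    simp [S, Finset.card_insert_of_notMem, Subtype.ext_iff, Ne.symm ha1, Ne.symm hb1, hab,
      Ne.symm n1, ha1, hb1]
  have hSu : S = Finset.univ := Finset.eq_univ_of_card S (by
    rw [hS, ← Nat.card_eq_fintype_card, T.card_E])
  have := hSu ▸ Finset.mem_univ (⟨e, he⟩ : invCenter X)
  simpa [S, Subtype.ext_iff] using this

theorem isMulCommutative_closure_union {s : Set X} (hs : ∀ x ∈ s, ∀ y ∈ s, x * y = y * x) :
    IsMulCommutative (closure (s ∪ invCenter X : Set X)) := by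
  refine isMulCommutative_closure ?_
  rintro x (hx | hx) y (hy | hy)
  · exact hs x hx y hy
  · exact invCenter_comm hy x
  · exact (invCenter_comm hx y).symm
  · exact invCenter_comm hy x

/-- There are no involutions outside the centre. -/
theorem mem_of_sq_eq_one {t : X} (ht : t * t = 1) : t ∈ invCenter X := by
  by_contra htE
  set S : Set X := {t} ∪ invCenter X with hS
  have hc := T.isMulCommutative_closure_union (s := {t}) (by rintro x rfl y rfl; rfl)
  have hel : Cfsg.IsElementaryAbelian 2 (closure S) := by
    refine ⟨hc, fun z hz => ?_⟩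
    induction hz using closure_induction with
    | mem x hx =>
      rcases hx with rfl | hx
      · rw [pow_two, ht]
      · exact (invCenter_isElementaryAbelian (X := X)).2 x hx
    | one => exact one_pow 2
    | mul x y hx hy ihx ihy =>
      rw [(show Commute x y from
        congrArg Subtype.val (hc.is_comm.comm ⟨x, hx⟩ ⟨y, hy⟩)).mul_pow, ihx, ihy, one_mul]
    | inv x _ ih => rw [inv_pow, ih, inv_one]
  have hEle : invCenter X ≤ closure S := fun e he => subset_closure (Or.inr he)
  have hn : (closure S).Normal := ⟨fun w hw g => by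
    have := mul_mem (hEle (T.theta_E g w)) hw
    simpa [theta] using this⟩
  have hle := T.rank _ hn hel
  have heq := eq_of_le_of_card_ge hEle (by rw [T.card_E]; exact hle)
  exact htE (heq ▸ subset_closure (Or.inl rfl))

theorem inv_mul_mem_of_sq_eq {x y : X} (hxy : Commute x y) (h : x * x = y * y) :
    x⁻¹ * y ∈ invCenter X := by
  refine T.mem_of_sq_eq_one ?_
  rw [(hxy.symm.inv_right).mul_mul_mul_comm, ← h]
  group

theorem card_sq_ker_le {M : Subgroup X} (f : M →* X) (hf : ∀ g, f g = (g : X) * g) :
    Nat.card f.ker ≤ 4 := by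
  rw [← T.card_E]
  refine Nat.card_le_card_of_injective
    (fun g => (⟨((g : M) : X), T.mem_of_sq_eq_one ?_⟩ : invCenter X)) (fun a b h => Subtype.ext
      (Subtype.ext (congrArg (fun w : invCenter X => (w : X)) h)))
  rw [← hf]
  exact MonoidHom.mem_ker.mp g.2

/-- Abelian subgroups have order at most 16. -/
theorem card_le_sixteen {M : Subgroup X} (hM : IsMulCommutative M) : Nat.card M ≤ 16 := by
  let f : M →* X :=
    { toFun := fun g => (g : X) * g
      map_one' := one_mul 1
      map_mul' := fun a b => (show Commute (b : X) a from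
        congrArg Subtype.val (hM.is_comm.comm b a)).mul_mul_mul_comm _ _ }
  have hker := T.card_sq_ker_le f fun _ => rfl
  have hr : Nat.card f.range ≤ 4 := by
    rw [← T.card_E]
    exact card_le_of_le (by rintro _ ⟨g, rfl⟩; exact T.sq _)
  rw [← card_mul_index f.ker, index_eq_card,
    Nat.card_congr (QuotientGroup.quotientKerEquivRange f).toEquiv]
  exact le_trans (Nat.mul_le_mul hker hr) (by norm_num)

theorem centralizers_inf {x y : X} (hxy : Commute x y) (hx : x ∉ invCenter X)
    (hy : y ∉ invCenter X) (hne : x⁻¹ * y ∉ invCenter X) :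
    IsMulCommutative (centralizer ({x} : Set X) ⊓ centralizer ({y} : Set X) : Subgroup X) ∧
      Nat.card (centralizer ({x} : Set X) ⊓ centralizer ({y} : Set X) : Subgroup X) = 16 := by
  set N := centralizer ({x} : Set X) ⊓ centralizer ({y} : Set X) with hN
  set M := closure ({x, y} ∪ invCenter X : Set X) with hM
  have hMc : IsMulCommutative M := T.isMulCommutative_closure_union (s := {x, y}) (by
    rintro u (rfl | rfl) v (rfl | rfl)
    · rfl
    · exact hxy.eq
    · exact hxy.eq.symm
    · rfl)
  have hxM : x ∈ M := subset_closure (Or.inl (Set.mem_insert _ _))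
  have hyM : y ∈ M := subset_closure (Or.inl (Set.mem_insert_of_mem _ rfl))
  have h16 : 16 ≤ Nat.card M := by
    classical
    let f : M →* X :=
      { toFun := fun g => (g : X) * g
        map_one' := one_mul 1
        map_mul' := fun a b => (show Commute (b : X) a from
          congrArg Subtype.val (hMc.is_comm.comm b a)).mul_mul_mul_comm _ _ }
    have hker : 4 ≤ Nat.card f.ker := by
      rw [← T.card_E]
      refine Nat.card_le_card_of_injective
        (fun e => (⟨⟨e, subset_closure (Or.inr e.2)⟩, MonoidHom.mem_ker.mpr e.2.2⟩ : f.ker))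
        fun a b h => Subtype.ext (congrArg (fun w : f.ker => ((w : M) : X)) h)
    have hr : 3 ≤ Nat.card f.range := by
      have : Fintype f.range := Fintype.ofFinite _
      let S : Finset f.range := {1, ⟨x * x, ⟨⟨x, hxM⟩, rfl⟩⟩, ⟨y * y, ⟨⟨y, hyM⟩, rfl⟩⟩}
      have hS : S.card = 3 := by
        have n1 : x * x ≠ 1 := fun h => hx (T.mem_of_sq_eq_one h)
        have n2 : y * y ≠ 1 := fun h => hy (T.mem_of_sq_eq_one h)
        have n3 : x * x ≠ y * y := fun h => hne (T.inv_mul_mem_of_sq_eq hxy h)
        simp [S, Finset.card_insert_of_notMem, Subtype.ext_iff, n3, Ne.symm n1, Ne.symm n2]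
      rw [Nat.card_eq_fintype_card, ← hS]
      exact Finset.card_le_univ S
    have hle4 : Nat.card f.range ∣ 4 := by
      rw [← T.card_E]
      exact card_dvd_of_le (by rintro _ ⟨g, rfl⟩; exact T.sq _)
    have hr4 : Nat.card f.range = 4 := by
      have := Nat.le_of_dvd (by norm_num) hle4
      interval_cases Nat.card f.range
      · norm_num at hle4
      · rfl
    rw [← card_mul_index f.ker, index_eq_card,
      Nat.card_congr (QuotientGroup.quotientKerEquivRange f).toEquiv, hr4]
    omega
  have hNM : N ≤ M := by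
    intro g hg
    obtain ⟨hgx, hgy⟩ := mem_inf.mp hg
    rw [mem_centralizer_singleton_iff] at hgx hgy
    set M' := closure ({x, y, g} ∪ invCenter X : Set X) with hM'
    have hM'c : IsMulCommutative M' := T.isMulCommutative_closure_union (s := {x, y, g}) (by
      rintro u (rfl | rfl | rfl) v (rfl | rfl | rfl)
      · rfl
      · exact hxy.eq
      · exact hgx.symm
      · exact hxy.eq.symm
      · rfl
      · exact hgy.symm
      · exact hgx
      · exact hgy
      · rfl)
    have hle : M ≤ M' := closure_mono (Set.union_subset_union_left _ (by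
      rintro u (rfl | rfl)
      · exact Set.mem_insert _ _
      · exact Set.mem_insert_of_mem _ (Set.mem_insert _ _)))
    have heq := eq_of_le_of_card_ge hle ((T.card_le_sixteen hM'c).trans h16)
    rw [heq]
    exact subset_closure (Or.inl (Set.mem_insert_of_mem _ (Set.mem_insert_of_mem _ rfl)))
  have hMN : M ≤ N := fun g hg => mem_inf.mpr
    ⟨mem_centralizer_singleton_iff.mpr
      (congrArg Subtype.val (hMc.is_comm.comm ⟨g, hg⟩ ⟨x, hxM⟩)),
      mem_centralizer_singleton_iff.mpr
      (congrArg Subtype.val (hMc.is_comm.comm ⟨g, hg⟩ ⟨y, hyM⟩))⟩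
  have heq : N = M := le_antisymm hNM hMN
  rw [heq]
  exact ⟨hMc, le_antisymm (T.card_le_sixteen hMc) h16⟩

/-- `theta y`, restricted to a subgroup. -/
theorem exists_hom (y : X) (K : Subgroup X) :
    ∃ f : K →* X, (∀ g : K, f g = theta y g) ∧ f.range ≤ invCenter X ∧
      Nat.card f.ker = Nat.card (K ⊓ centralizer ({y} : Set X) : Subgroup X) := by
  refine ⟨{ toFun := fun g => theta y g
            map_one' := theta_one_right y
            map_mul' := fun a b => T.theta_hom_right y a b }, fun _ => rfl, ?_, ?_⟩
  · rintro _ ⟨g, rfl⟩; exact T.theta_E y g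
  · refine Nat.card_congr
      { toFun := fun g => ⟨((g : K) : X), mem_inf.mpr ⟨g.1.2, mem_centralizer_singleton_iff.mpr
          (theta_eq_one.mp (MonoidHom.mem_ker.mp g.2)).symm⟩⟩
        invFun := fun g => ⟨⟨g, (mem_inf.mp g.2).1⟩, MonoidHom.mem_ker.mpr (theta_eq_one.mpr
          (mem_centralizer_singleton_iff.mp (mem_inf.mp g.2).2).symm)⟩
        left_inv := fun _ => rfl
        right_inv := fun _ => rfl }

theorem pair_contra {x y u v : X} (hx : x ∉ invCenter X) (hxy : Commute x y) (hxu : Commute x u)
    (hxv : Commute x v) (huv : Commute u v) (hu : theta y u ≠ 1) (hv : theta y v ≠ 1)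
    (hne : theta y u ≠ theta y v) : False := by
  classical
  have hu' : u ∉ invCenter X := fun h => hu (T.theta_central h)
  have hxu' : x⁻¹ * u ∉ invCenter X := fun h => hu (by
    have := T.theta_central (x := y) h
    rwa [T.theta_hom_right, T.theta_inv, theta_eq_one.mpr hxy.symm.eq, one_mul] at this)
  obtain ⟨-, h16⟩ := T.centralizers_inf hxu hx hu' hxu'
  set K := centralizer ({x} : Set X) ⊓ centralizer ({u} : Set X) with hK
  obtain ⟨f, hf, -, hker⟩ := T.exists_hom y K
  have hk8 : 8 ≤ Nat.card f.ker := by
    rw [hker]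
    set L := closure ({x} ∪ invCenter X : Set X) with hL
    have hle : L ≤ K ⊓ centralizer ({y} : Set X) := by
      refine (closure_le _).mpr ?_
      rintro g (rfl | hg)
      · exact mem_inf.mpr ⟨mem_inf.mpr ⟨mem_centralizer_singleton_iff.mpr rfl,
          mem_centralizer_singleton_iff.mpr hxu.eq⟩, mem_centralizer_singleton_iff.mpr hxy.eq⟩
      · exact mem_inf.mpr ⟨mem_inf.mpr ⟨mem_centralizer_singleton_iff.mpr (invCenter_comm hg x).symm,
          mem_centralizer_singleton_iff.mpr (invCenter_comm hg u).symm⟩,
          mem_centralizer_singleton_iff.mpr (invCenter_comm hg y).symm⟩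
    refine le_trans ?_ (card_le_of_le hle)
    obtain ⟨k, hk⟩ := (have : Fact (Nat.Prime 2) := ⟨Nat.prime_two⟩; IsPGroup.iff_card.mp (T.pg.to_subgroup L))
    have hlt : invCenter X < L := lt_of_le_of_ne (fun e he => subset_closure (Or.inr he))
      fun h => hx (h ▸ subset_closure (Or.inl rfl))
    have h4 : 4 < Nat.card L := by
      rw [← T.card_E]
      exact lt_of_not_ge fun h => hlt.ne (eq_of_le_of_card_ge hlt.le h)
    rw [hk] at h4 ⊢
    rcases k with - | _ | _ | k
    · norm_num at h4
    · norm_num at h4
    · norm_num at h4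
    · have : 0 < 2 ^ k := pow_pos two_pos k
      simp only [pow_succ]; omega
  have hr : 3 ≤ Nat.card f.range := by
    have : Fintype f.range := Fintype.ofFinite _
    have huK : u ∈ K := mem_inf.mpr ⟨mem_centralizer_singleton_iff.mpr hxu.eq.symm,
      mem_centralizer_singleton_iff.mpr rfl⟩
    have hvK : v ∈ K := mem_inf.mpr ⟨mem_centralizer_singleton_iff.mpr hxv.eq.symm,
      mem_centralizer_singleton_iff.mpr huv.eq.symm⟩
    let S : Finset f.range := {1, ⟨theta y u, ⟨⟨u, huK⟩, hf _⟩⟩, ⟨theta y v, ⟨⟨v, hvK⟩, hf _⟩⟩}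
    have hS : S.card = 3 := by
      simp [S, Finset.card_insert_of_notMem, Subtype.ext_iff, hne, Ne.symm hu, Ne.symm hv]
    rw [Nat.card_eq_fintype_card, ← hS]
    exact Finset.card_le_univ S
  have := card_mul_index f.ker
  rw [index_eq_card, Nat.card_congr (QuotientGroup.quotientKerEquivRange f).toEquiv, h16] at this
  have h24 := Nat.mul_le_mul hk8 hr
  omega

/-- Two elements with independent values of `theta y` give a commuting pair. -/
theorem exists_commute {y z w : X} (ha : theta y z ≠ 1) (hb : theta y w ≠ 1)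
    (hab : theta y z ≠ theta y w) (K : Subgroup X) (hy : y ∈ K) (hz : z ∈ K) (hw : w ∈ K) :
    ∃ u ∈ K, ∃ v ∈ K, Commute u v ∧ theta y u ≠ 1 ∧ theta y v ≠ 1 ∧ theta y u ≠ theta y v := by
  have hzy : theta z y = theta y z := T.theta_swap y z
  have hwy : theta w y = theta y w := T.theta_swap y w
  have hwz : theta w z = theta z w := T.theta_swap z w
  have hr : ∀ p, theta y (y * p) = theta y p := fun p => by
    rw [T.theta_hom_right, T.theta_self, one_mul]
  rcases T.cases4 (T.theta_E y z) (T.theta_E y w) ha hb hab (T.theta_E z w) with h | h | h | h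
  · exact ⟨z, hz, w, hw, theta_eq_one.mp h, ha, hb, hab⟩
  · refine ⟨y * w, mul_mem hy hw, z, hz, theta_eq_one.mp ?_, ?_, ha, ?_⟩
    · rw [T.theta_hom_left, hwz, h, (T.theta_E y z).2]
    · rw [hr]; exact hb
    · rw [hr]; exact hab.symm
  · refine ⟨w, hw, y * z, mul_mem hy hz, theta_eq_one.mp ?_, hb, ?_, ?_⟩
    · rw [T.theta_hom_right, hwy, hwz, h, (T.theta_E y w).2]
    · rw [hr]; exact ha
    · rw [hr]; exact hab.symm
  · refine ⟨y * z, mul_mem hy hz, y * w, mul_mem hy hw, theta_eq_one.mp ?_, ?_, ?_, ?_⟩
    · rw [T.theta_hom_left, T.theta_hom_right, T.theta_hom_right, T.theta_self, one_mul, hzy, h,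
        ← mul_assoc (theta y w), invCenter_comm (T.theta_E y z) (theta y w),
        (mul_mem (T.theta_E y z) (T.theta_E y w)).2]
    · rw [hr]; exact ha
    · rw [hr]; exact hb
    · rw [hr, hr]; exact hab

theorem exists_values {f : X} (K : Subgroup X)
    (h : 2 * Nat.card (K ⊓ centralizer ({f} : Set X) : Subgroup X) < Nat.card K) :
    ∃ z ∈ K, ∃ w ∈ K, theta f z ≠ 1 ∧ theta f w ≠ 1 ∧ theta f z ≠ theta f w := by
  classical
  obtain ⟨g, hg, -, hker⟩ := T.exists_hom f K
  have hr : 2 < Nat.card g.range := by
    have := card_mul_index g.ker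
    rw [index_eq_card, Nat.card_congr (QuotientGroup.quotientKerEquivRange g).toEquiv, hker] at this
    by_contra hle
    rw [not_lt] at hle
    have := Nat.mul_le_mul_left (Nat.card (K ⊓ centralizer ({f} : Set X) : Subgroup X)) hle
    omega
  have : Fintype g.range := Fintype.ofFinite _
  rw [Nat.card_eq_fintype_card, Fintype.two_lt_card_iff] at hr
  obtain ⟨p, q, r, hpq, hpr, hqr⟩ := hr
  obtain ⟨p', hp⟩ := MonoidHom.mem_range.mp p.2
  obtain ⟨q', hq⟩ := MonoidHom.mem_range.mp q.2
  obtain ⟨r', hr⟩ := MonoidHom.mem_range.mp r.2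
  rw [hg] at hp hq hr
  have epq : theta f p' ≠ theta f q' := fun e => hpq (Subtype.ext (hp ▸ hq ▸ e))
  have epr : theta f p' ≠ theta f r' := fun e => hpr (Subtype.ext (hp ▸ hr ▸ e))
  have eqr : theta f q' ≠ theta f r' := fun e => hqr (Subtype.ext (hq ▸ hr ▸ e))
  by_cases hp1 : theta f p' = 1
  · exact ⟨q', q'.2, r', r'.2, fun e => epq (hp1.trans e.symm), fun e => epr (hp1.trans e.symm), eqr⟩
  by_cases hq1 : theta f q' = 1
  · exact ⟨p', p'.2, r', r'.2, hp1, fun e => eqr (hq1.trans e.symm), epr⟩
  exact ⟨p', p'.2, q', q'.2, hp1, hq1, epq⟩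

theorem card_centralizer_le {x : X} (hx : x ∉ invCenter X) :
    Nat.card (centralizer ({x} : Set X)) ≤ 32 := by
  by_contra hlt
  rw [not_le] at hlt
  set C := centralizer ({x} : Set X) with hC
  have hM : IsMulCommutative (closure ({x} ∪ invCenter X : Set X)) :=
    T.isMulCommutative_closure_union (s := {x}) (by rintro u rfl v rfl; rfl)
  obtain ⟨y, hyC, hyM⟩ := SetLike.not_le_iff_exists.mp
    (fun hle : C ≤ closure ({x} ∪ invCenter X : Set X) => by
      have := (card_le_of_le hle).trans (T.card_le_sixteen hM)
      omega)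
  have hxy : Commute x y := (mem_centralizer_singleton_iff.mp hyC).symm
  have hy : y ∉ invCenter X := fun h => hyM (subset_closure (Or.inr h))
  have hxy' : x⁻¹ * y ∉ invCenter X := fun h => hyM (by
    have := mul_mem (subset_closure (Or.inl rfl) : x ∈ closure ({x} ∪ invCenter X : Set X))
      (subset_closure (Or.inr h))
    rwa [mul_inv_cancel_left] at this)
  obtain ⟨-, h16⟩ := T.centralizers_inf hxy hx hy hxy'
  obtain ⟨z, hz, w, hw, hz1, hw1, hzw⟩ := T.exists_values (f := y) C (by rw [h16]; omega)
  obtain ⟨u, hu, v, hv, huv, hu1, hv1, huv'⟩ := T.exists_commute hz1 hw1 hzw C hyC hz hw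
  exact T.pair_contra hx hxy (mem_centralizer_singleton_iff.mp hu).symm
    (mem_centralizer_singleton_iff.mp hv).symm huv hu1 hv1 huv'

theorem card_le : Nat.card X ≤ 128 := by
  obtain ⟨x, hx⟩ : ∃ x, x ∉ invCenter X := by
    by_contra hne
    push Not at hne
    have h := T.toSetting.gen ⊥ fun φ hφ x => by
      have hc : commutator X = ⊥ := by
        rw [eq_bot_iff, commutator_eq_closure, closure_le]
        rintro _ ⟨a, b, rfl⟩
        rw [SetLike.mem_coe, mem_bot, commutatorElement_eq_one_iff_mul_comm]
        exact invCenter_comm (hne b) a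
      have hb : invCenter X = ⊥ := T.comm_eq ▸ hc
      have := T.card_E
      rw [hb, Subgroup.card_bot] at this
      omega
    have h4 := T.card_E
    have hE : invCenter X ≤ (⊥ : Subgroup X) := h ▸ le_top
    rw [le_bot_iff.mp hE, Subgroup.card_bot] at h4
    omega
  have h1 := T.toSetting.card_le_centralizer x
  have h2 := T.card_centralizer_le hx
  rw [T.card_E] at h1
  omega

theorem card_ne_128 : Nat.card X ≠ 128 := by
  classical
  intro h128
  have : Fintype X := Fintype.ofFinite X
  have hC : ∀ x, x ∉ invCenter X → Nat.card (centralizer ({x} : Set X)) = 32 := fun x hx => by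
    have h1 := T.toSetting.card_le_centralizer x
    have h2 := T.card_centralizer_le hx
    rw [T.card_E] at h1
    omega
  let S : X → Finset X := fun f => Finset.univ.filter fun x => x * x = f
  have hE : ∀ e ∈ invCenter X, e * e = 1 := fun e he => he.2
  have hS1 : (S 1).card = 4 := by
    rw [← T.card_E, Nat.card_eq_fintype_card, Fintype.card_subtype]
    congr 1
    ext x
    simp only [S, Finset.mem_filter, Finset.mem_univ, true_and]
    exact ⟨T.mem_of_sq_eq_one, hE x⟩
  -- each element of square `a` commutes with twelve of square `b`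
  have h12 : ∀ a ∈ invCenter X, ∀ b ∈ invCenter X, a ≠ 1 → b ≠ 1 → a ≠ b → ∀ x, x * x = a →
      ((S b).filter fun y => Commute x y).card = 12 := by
    intro a ha b hb ha1 hb1 hab x hxa
    have hx : x ∉ invCenter X := fun h => ha1 (hxa ▸ hE x h)
    let C : Finset X := Finset.univ.filter fun y => Commute x y
    have hCcard : C.card = 32 := by
      rw [← hC x hx, Nat.card_eq_fintype_card, Fintype.card_subtype]
      congr 1
      ext y
      simp only [C, Finset.mem_filter, Finset.mem_univ, true_and, mem_centralizer_singleton_iff]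
      exact ⟨fun h => h.symm, fun h => Commute.symm h⟩
    have hmaps : ∀ y ∈ C, y * y ∈ ({1, a, b, a * b} : Finset X) := fun y _ => by
      simpa using T.cases4 ha hb ha1 hb1 hab (T.sq y)
    have hab1 : a * b ≠ 1 := fun h => hab (by
      rw [← invCenter_inv hb]; exact eq_inv_of_mul_eq_one_left h)
    have hsum := Finset.card_eq_sum_card_fiberwise hmaps
    have n5 : a ≠ a * b := fun h => hb1 (left_eq_mul.mp h)
    have n6 : b ≠ a * b := fun h => ha1 (right_eq_mul.mp h)
    rw [hCcard, Finset.sum_insert (by simp [Ne.symm ha1, Ne.symm hb1, Ne.symm hab1]),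
      Finset.sum_insert (by simp [hab, n5]), Finset.sum_insert (by simp [n6]),
      Finset.sum_singleton] at hsum
    have e1 : (C.filter fun y => y * y = 1).card = 4 := by
      rw [← hS1]
      congr 1
      ext y
      simp only [C, S, Finset.mem_filter, Finset.mem_univ, true_and]
      exact ⟨fun h => h.2, fun h => ⟨invCenter_comm (T.mem_of_sq_eq_one h) x, h⟩⟩
    have e2 : (C.filter fun y => y * y = a).card = 4 := by
      rw [← hS1]
      refine Finset.card_nbij' (fun y => x⁻¹ * y) (fun e => x * e) ?_ ?_ (fun y _ => by simp)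
        (fun e _ => by simp)
      · intro y hy
        simp only [Finset.coe_filter, C, S, Set.mem_ofPred_eq, Finset.mem_filter, Finset.mem_univ,
          true_and] at hy ⊢
        exact hE _ (T.inv_mul_mem_of_sq_eq hy.1 (hxa.trans hy.2.symm))
      · intro e he
        simp only [Finset.coe_filter, C, S, Set.mem_ofPred_eq, Finset.mem_filter, Finset.mem_univ,
          true_and] at he ⊢
        have hce : Commute x e := invCenter_comm (T.mem_of_sq_eq_one he) x
        exact ⟨(Commute.refl x).mul_right hce, by rw [hce.symm.mul_mul_mul_comm, he, mul_one, hxa]⟩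
    have e3 : (C.filter fun y => y * y = b).card = (C.filter fun y => y * y = a * b).card := by
      have key : ∀ y, Commute x y → x * y * (x * y) = a * (y * y) := fun y hy => by
        rw [hy.symm.mul_mul_mul_comm, hxa]
      refine Finset.card_nbij' (fun y => x * y) (fun y => x⁻¹ * y) ?_ ?_ (fun y _ => by simp)
        (fun y _ => by simp)
      · intro y hy
        simp only [Finset.coe_filter, C, Set.mem_ofPred_eq, Finset.mem_filter, Finset.mem_univ,
          true_and] at hy ⊢
        exact ⟨(Commute.refl x).mul_right hy.1, by rw [key y hy.1, hy.2]⟩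
      · intro y hy
        simp only [Finset.coe_filter, C, Set.mem_ofPred_eq, Finset.mem_filter, Finset.mem_univ,
          true_and] at hy ⊢
        have hc : Commute x (x⁻¹ * y) := (Commute.inv_right (Commute.refl x)).mul_right hy.1
        refine ⟨hc, ?_⟩
        have := key _ hc
        rw [mul_inv_cancel_left, hy.2] at this
        exact (mul_left_cancel this).symm
    have e4 : ((S b).filter fun y => Commute x y) = C.filter fun y => y * y = b := by
      ext y
      simp only [C, S, Finset.mem_filter, Finset.mem_univ, true_and]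
      exact and_comm
    rw [e4]
    omega
  have hSeq : ∀ a ∈ invCenter X, ∀ b ∈ invCenter X, a ≠ 1 → b ≠ 1 → a ≠ b →
      (S a).card = (S b).card := by
    intro a ha b hb ha1 hb1 hab
    have h := Finset.card_mul_eq_card_mul (s := S a) (t := S b) (r := fun x y => Commute x y)
      (m := 12) (n := 12)
      (fun x hx => by
        rw [Finset.bipartiteAbove]
        exact h12 a ha b hb ha1 hb1 hab x (Finset.mem_filter.mp hx).2)
      (fun y hy => by
        rw [Finset.bipartiteBelow]
        rw [show ((S a).filter fun x => Commute x y) = (S a).filter fun x => Commute y x from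
          Finset.filter_congr fun x _ => ⟨Commute.symm, Commute.symm⟩]
        exact h12 b hb a ha hb1 ha1 hab.symm y (Finset.mem_filter.mp hy).2)
    omega
  have hr : 2 < Nat.card (invCenter X) := by rw [T.card_E]; norm_num
  have : Fintype (invCenter X) := Fintype.ofFinite _
  rw [Nat.card_eq_fintype_card, Fintype.two_lt_card_iff] at hr
  obtain ⟨p, q, r, hpq, hpr, hqr⟩ := hr
  obtain ⟨a, ha, b, hb, ha1, hb1, hab⟩ :
      ∃ a ∈ invCenter X, ∃ b ∈ invCenter X, a ≠ 1 ∧ b ≠ 1 ∧ a ≠ b := by
    have n1 : (p : X) ≠ q := fun h => hpq (Subtype.ext h)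
    have n2 : (p : X) ≠ r := fun h => hpr (Subtype.ext h)
    have n3 : (q : X) ≠ r := fun h => hqr (Subtype.ext h)
    by_cases hp : (p : X) = 1
    · exact ⟨q, q.2, r, r.2, fun e => n1 (hp.trans e.symm), fun e => n2 (hp.trans e.symm), n3⟩
    by_cases hq : (q : X) = 1
    · exact ⟨p, p.2, r, r.2, hp, fun e => n3 (hq.trans e.symm), n2⟩
    exact ⟨p, p.2, q, q.2, hp, hq, n1⟩
  have hab1 : a * b ≠ 1 := fun h => hab (by
    rw [← invCenter_inv hb]; exact eq_inv_of_mul_eq_one_left h)
  have n5 : a ≠ a * b := fun h => hb1 (left_eq_mul.mp h)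
  have n6 : b ≠ a * b := fun h => ha1 (right_eq_mul.mp h)
  have hmaps : ∀ y ∈ (Finset.univ : Finset X), y * y ∈ ({1, a, b, a * b} : Finset X) :=
    fun y _ => by simpa using T.cases4 ha hb ha1 hb1 hab (T.sq y)
  have hsum := Finset.card_eq_sum_card_fiberwise hmaps
  rw [Finset.card_univ, ← Nat.card_eq_fintype_card, h128,
    Finset.sum_insert (by simp [Ne.symm ha1, Ne.symm hb1, Ne.symm hab1]),
    Finset.sum_insert (by simp [hab, n5]), Finset.sum_insert (by simp [n6]),
    Finset.sum_singleton] at hsum
  have k1 := hSeq a ha b hb ha1 hb1 hab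
  have k2 := hSeq a ha _ (mul_mem ha hb) ha1 hab1 n5
  change 128 = (S 1).card + ((S a).card + ((S b).card + (S (a * b)).card)) at hsum
  omega

theorem exists_not_commute : ∃ a b : X, theta a b ≠ 1 := by
  by_contra hne
  push Not at hne
  have h4 := T.card_E
  have hc : commutator X = ⊥ := by
    rw [eq_bot_iff, commutator_eq_closure, closure_le]
    rintro _ ⟨a, b, rfl⟩
    rw [SetLike.mem_coe, mem_bot, commutatorElement_def]
    exact hne a b
  rw [← T.comm_eq, hc, Subgroup.card_bot] at h4
  omega

theorem card_ne_32 : Nat.card X ≠ 32 := by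
  intro h32
  have h2 : Fact (Nat.Prime 2) := ⟨Nat.prime_two⟩
  obtain ⟨x, y, hxy, hx, hy, hne⟩ : ∃ x y : X, Commute x y ∧ x ∉ invCenter X ∧
      y ∉ invCenter X ∧ x⁻¹ * y ∉ invCenter X := by
    by_contra hno
    push Not at hno
    obtain ⟨f, g, hfg⟩ := T.exists_not_commute
    have hf : f ∉ invCenter X := fun h => hfg (theta_eq_one.mpr (invCenter_comm h g).symm)
    have hCle : Nat.card (⊤ ⊓ centralizer ({f} : Set X) : Subgroup X) ≤ 8 := by
      classical
      rw [top_inf_eq]
      have hsub : ∀ c : centralizer ({f} : Set X), (c : X) ∈ invCenter X ∨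
          f⁻¹ * (c : X) ∈ invCenter X := fun c =>
        or_iff_not_imp_left.mpr fun hc =>
          hno f c (mem_centralizer_singleton_iff.mp c.2).symm hf hc
      refine le_trans (Nat.card_le_card_of_injective
        (β := invCenter X ⊕ invCenter X)
        (fun c => if hc : (c : X) ∈ invCenter X then Sum.inl ⟨c, hc⟩
          else Sum.inr ⟨f⁻¹ * c, (hsub c).resolve_left hc⟩) ?_) (by
        rw [Nat.card_sum, T.card_E])
      intro c d h
      simp only at h
      split at h <;> split at h <;> simp only [Sum.inl.injEq, Sum.inr.injEq, reduceCtorEq,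
        Subtype.mk.injEq, mul_right_inj] at h <;> exact Subtype.ext h
    obtain ⟨z, -, w, -, hz1, hw1, hzw⟩ := T.exists_values (f := f) ⊤ (by
      rw [Nat.card_congr Subgroup.topEquiv.toEquiv, h32]; omega)
    obtain ⟨u, -, v, -, huv, hu1, hv1, huv'⟩ :=
      T.exists_commute hz1 hw1 hzw ⊤ (mem_top f) (mem_top z) (mem_top w)
    have := T.theta_central (x := f) (hno u v huv (fun h => hu1 (T.theta_central h))
      (fun h => hv1 (T.theta_central h)))
    rw [T.theta_hom_right, T.theta_inv] at this
    exact huv' (by rw [eq_inv_of_mul_eq_one_left this, invCenter_inv (T.theta_E f v)])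
  obtain ⟨hMc, hM16⟩ := T.centralizers_inf hxy hx hy hne
  set M := centralizer ({x} : Set X) ⊓ centralizer ({y} : Set X) with hM
  have hEM : invCenter X ≤ M := fun e he => mem_inf.mpr
    ⟨mem_centralizer_singleton_iff.mpr (invCenter_comm he x).symm,
      mem_centralizer_singleton_iff.mpr (invCenter_comm he y).symm⟩
  have hidx : M.index = 2 := by
    have := card_mul_index M
    rw [hM16, h32] at this
    omega
  have hinv : ∀ φ ∈ A, ∀ m ∈ M, φ m ∈ M := by
    intro φ hφ m hm
    set M' := M.map φ.toMonoidHom with hM'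
    suffices M' = M from this ▸ mem_map_of_mem φ.toMonoidHom hm
    by_contra hne'
    have hM'16 : Nat.card M' = 16 := by
      rw [hM', card_map_of_injective φ.injective, hM16]
    have hnle : ¬ M' ≤ M := fun h => hne' (eq_of_le_of_card_ge h (by rw [hM16, hM'16]))
    -- the intersection has order at least eight
    have : M.Normal := normal_of_index_eq_two hidx
    let π := (QuotientGroup.mk' M).comp M'.subtype
    have hker : 8 ≤ Nat.card π.ker := by
      have h1 := card_mul_index π.ker
      rw [hM'16, index_eq_card,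
        Nat.card_congr (QuotientGroup.quotientKerEquivRange π).toEquiv] at h1
      have h2 : Nat.card π.range ≤ 2 := by
        refine (Nat.card_le_card_of_injective _ Subtype.val_injective).trans ?_
        rw [← index_eq_card, hidx]
      have h3 := Nat.mul_le_mul_left (Nat.card π.ker) h2
      omega
    obtain ⟨r, hr⟩ : ∃ r : π.ker, ((r : M') : X) ∉ invCenter X := by
      by_contra hall
      push Not at hall
      have := Nat.card_le_card_of_injective (fun r : π.ker =>
        (⟨((r : M') : X), hall r⟩ : invCenter X)) (fun a b h => Subtype.ext (Subtype.ext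
          (congrArg (fun w : invCenter X => (w : X)) h)))
      rw [T.card_E] at this
      omega
    refine hr (T.center_le ?_)
    have hrM : ((r : M') : X) ∈ M := (QuotientGroup.eq_one_iff _).mp (MonoidHom.mem_ker.mp r.2)
    have hM'c : IsMulCommutative M' := ⟨⟨fun a b => by
      obtain ⟨a', ha', ea⟩ := a.2
      obtain ⟨b', hb', eb⟩ := b.2
      refine Subtype.ext ?_
      show (a : X) * b = b * a
      rw [← ea, ← eb, ← map_mul, ← map_mul]
      exact congrArg _ (congrArg Subtype.val (hMc.is_comm.comm ⟨a', ha'⟩ ⟨b', hb'⟩))⟩⟩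
    have hle : M ⊔ M' ≤ centralizer ({((r : M') : X)} : Set X) := by
      refine sup_le (fun m hm => ?_) fun m hm => ?_
      · exact mem_centralizer_singleton_iff.mpr
          (congrArg Subtype.val (hMc.is_comm.comm ⟨m, hm⟩ ⟨_, hrM⟩))
      · exact mem_centralizer_singleton_iff.mpr
          (congrArg Subtype.val (hM'c.is_comm.comm ⟨m, hm⟩ (r : M')))
    have htop : M ⊔ M' = ⊤ := by
      refine eq_top_of_card_eq _ (le_antisymm ?_ ?_)
      · exact (card_le_of_le le_top).trans (le_of_eq (Nat.card_congr Subgroup.topEquiv.toEquiv))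
      · obtain ⟨k, hk⟩ := IsPGroup.iff_card.mp (T.pg.to_subgroup (M ⊔ M'))
        have hlt : M < M ⊔ M' := lt_of_le_of_ne le_sup_left fun h => hnle (h ▸ le_sup_right)
        have h16 : 16 < Nat.card (M ⊔ M' : Subgroup X) := by
          rw [← hM16]
          exact lt_of_not_ge fun h => hlt.ne (eq_of_le_of_card_ge hlt.le h)
        rw [hk] at h16 ⊢
        rw [h32, show (32 : ℕ) = 2 ^ 5 from rfl]
        refine Nat.pow_le_pow_right two_pos ?_
        by_contra hlt5
        rw [not_le] at hlt5
        have := Nat.pow_le_pow_right two_pos (Nat.le_of_lt_succ hlt5)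
        omega
    refine mem_center_iff.mpr fun g => ?_
    exact mem_centralizer_singleton_iff.mp (hle (htop ▸ mem_top g))
  have htop := T.toSetting.gen M fun φ hφ m => by
    rw [mul_mem_iff_of_index_two hidx, inv_mem_iff]
    refine ⟨hinv φ hφ m, fun hm => ?_⟩
    have := hinv φ⁻¹ (inv_mem hφ) _ hm
    rwa [MulAut.inv_apply_self] at this
  rw [htop, index_top] at hidx
  omega

theorem card_gt_16 : 16 < Nat.card X := by
  by_contra hle
  rw [not_lt] at hle
  have h2 : Fact (Nat.Prime 2) := ⟨Nat.prime_two⟩
  obtain ⟨a, b, hab⟩ := T.exists_not_commute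
  have ha : a ∉ invCenter X := fun h => hab (theta_eq_one.mpr (invCenter_comm h b).symm)
  set L₁ := closure ({a} ∪ invCenter X : Set X) with hL₁
  set L := closure ({a, b} ∪ invCenter X : Set X) with hL
  have hlt₁ : invCenter X < L₁ := lt_of_le_of_ne (fun e he => subset_closure (Or.inr he))
    fun h => ha (h ▸ subset_closure (Or.inl rfl))
  have hc₁ : IsMulCommutative L₁ :=
    T.isMulCommutative_closure_union (s := {a}) (by rintro u rfl v rfl; rfl)
  have hlt₂ : L₁ < L := by
    refine lt_of_le_of_ne (closure_mono (Set.union_subset_union_left _ (by simp))) fun h => hab ?_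
    have hb : b ∈ L₁ := h ▸ subset_closure (Or.inl (Set.mem_insert_of_mem _ rfl))
    exact theta_eq_one.mpr (congrArg Subtype.val
      (hc₁.is_comm.comm ⟨a, subset_closure (Or.inl rfl)⟩ ⟨b, hb⟩))
  have hstep : ∀ {P Q : Subgroup X}, P < Q → 2 * Nat.card P ≤ Nat.card Q := by
    intro P Q hPQ
    obtain ⟨i, hi⟩ := IsPGroup.iff_card.mp (T.pg.to_subgroup P)
    obtain ⟨j, hj⟩ := IsPGroup.iff_card.mp (T.pg.to_subgroup Q)
    have : Nat.card P < Nat.card Q :=
      lt_of_not_ge fun h => hPQ.ne (eq_of_le_of_card_ge hPQ.le h)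
    rw [hi, hj] at this ⊢
    rw [← pow_succ']
    exact Nat.pow_le_pow_right two_pos ((Nat.pow_lt_pow_iff_right (by norm_num)).mp this)
  have k1 := hstep hlt₁
  have k2 := hstep hlt₂
  rw [T.card_E] at k1
  have hLtop : L = ⊤ := eq_top_of_card_eq _ (le_antisymm
    ((card_le_of_le le_top).trans (le_of_eq (Nat.card_congr Subgroup.topEquiv.toEquiv))) (by omega))
  -- all commutators lie in `⟨[a, b]⟩`
  set δ := theta a b with hδdef
  have hδ : δ ∈ invCenter X := T.theta_E a b
  have : (zpowers δ).Normal := ⟨fun w hw g => by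
    obtain ⟨k, rfl⟩ := mem_zpowers_iff.mp hw
    rw [(show Commute g δ from invCenter_comm hδ g).zpow_right k, mul_inv_cancel_right]
    exact zpow_mem (mem_zpowers δ) k⟩
  set π := QuotientGroup.mk' (zpowers δ) with hπ
  have hπab : π a * π b = π b * π a := by
    rw [← map_mul, ← map_mul, show a * b = δ * (b * a) by simp only [hδdef, theta]; group, map_mul,
      show π δ = 1 from (QuotientGroup.eq_one_iff δ).mpr (mem_zpowers δ), one_mul]
  have hcl : IsMulCommutative (L.map π) := by
    rw [hL, MonoidHom.map_closure]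
    refine isMulCommutative_closure ?_
    rintro _ ⟨p, hp, rfl⟩ _ ⟨q, hq, rfl⟩
    rcases hp with hp | hp
    · rcases hq with hq | hq
      · rcases hp with rfl | rfl <;> rcases hq with rfl | rfl
        · rfl
        · exact hπab
        · exact hπab.symm
        · rfl
      · rw [← map_mul, ← map_mul, invCenter_comm hq p]
    · rw [← map_mul, ← map_mul, invCenter_comm hp q]
  have hcom : commutator X ≤ zpowers δ := by
    rw [commutator_eq_closure, closure_le]
    rintro _ ⟨p, q, rfl⟩
    rw [SetLike.mem_coe, commutatorElement_def, ← QuotientGroup.eq_one_iff]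
    show π (p * q * p⁻¹ * q⁻¹) = 1
    have h := congrArg Subtype.val (hcl.is_comm.comm
      ⟨π p, mem_map_of_mem π (hLtop ▸ mem_top p)⟩ ⟨π q, mem_map_of_mem π (hLtop ▸ mem_top q)⟩)
    simp only [Subgroup.coe_mul] at h
    rw [map_mul, map_mul, map_mul, map_inv, map_inv, h]
    group
  rw [T.comm_eq] at hcom
  have h4 := card_le_of_le hcom
  rw [T.card_E, Nat.card_zpowers] at h4
  have : orderOf δ ≤ 2 := Nat.le_of_dvd two_pos (orderOf_dvd_of_pow_eq_one (by rw [pow_two]; exact hδ.2))
  omega

/-- The case of a centre of order four. -/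
theorem classify : Nat.card X = 64 ∧ Nat.card {x : X // orderOf x = 2} = 3 ∧
    ∀ x : X, orderOf x = 2 → x ∈ center X := by
  classical
  have h2 : Fact (Nat.Prime 2) := ⟨Nat.prime_two⟩
  have hmem : ∀ x : X, orderOf x = 2 → x ∈ invCenter X := fun x hx => T.mem_of_sq_eq_one (by
    rw [← pow_two, ← hx, pow_orderOf_eq_one])
  refine ⟨?_, ?_, fun x hx => (hmem x hx).1⟩
  · obtain ⟨k, hk⟩ := IsPGroup.iff_card.mp T.pg
    have l1 := T.card_le
    have l2 := T.card_ne_128
    have l3 := T.card_ne_32
    have l4 := T.card_gt_16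
    rw [hk] at l1 l2 l3 l4 ⊢
    have : k ≤ 7 := (Nat.pow_le_pow_iff_right (a := 2) (by norm_num)).mp (by simpa using l1)
    interval_cases k <;> simp_all
  · have : Fintype (invCenter X) := Fintype.ofFinite _
    rw [Nat.card_congr
      (show {x : X // orderOf x = 2} ≃ {e : invCenter X // e ≠ 1} from
        { toFun := fun x => ⟨⟨x, hmem x x.2⟩, fun h => by
            have := x.2
            rw [show (x : X) = 1 from congrArg Subtype.val h, orderOf_one] at this
            omega⟩
          invFun := fun e => ⟨(e : invCenter X), orderOf_eq_prime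
            (by rw [pow_two]; exact (e : invCenter X).2.2) fun h => e.2 (Subtype.ext h)⟩
          left_inv := fun _ => rfl
          right_inv := fun _ => rfl }), Nat.card_eq_fintype_card, Fintype.card_subtype_compl,
      Fintype.card_subtype_eq, ← Nat.card_eq_fintype_card, T.card_E]

end FourData

end CfsgLib.OddAutTwoGroup
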