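import Cfsg.Agent.OddAutTwoGroup.Structure
import Cfsg.Agent.TwoGroupsQ.UniqueInvolution
import Mathlib.GroupTheory.SpecificGroups.Quaternion

/-!
# Centre of order two: `Q₈` or extraspecial of order 32 with eleven involutions
-/

set_option autoImplicit false

open Subgroup

namespace CfsgLib.OddAutTwoGroup

variable {X : Type*} [Group X]

/-- `x` or `1`. -/
def bpow (x : X) (i : Bool) : X := if i then x else 1

/-- A pair of noncommuting elements with commutator `z`. -/
def IsPair (z x y : X) : Prop := theta x y = z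

/-- Every element of `{x, y}` commutes with every element of `{c, d}`. -/
def Comm4 (x y c d : X) : Prop :=
  Commute x c ∧ Commute x d ∧ Commute y c ∧ Commute y d

/-- The normal form in a pair of pairs. -/
def word5 (z a b c d : X) (w : Bool × Bool × Bool × Bool × Bool) : X :=
  bpow a w.1 * bpow b w.2.1 * (bpow c w.2.2.1 * bpow d w.2.2.2.1) * bpow z w.2.2.2.2

variable [Finite X] {A : Subgroup (MulAut X)}

/-- The setting with the centre of order two. -/
structure TwoData (A : Subgroup (MulAut X)) (z : X) : Prop extends Setting A where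
  /-- `z` is the central involution. -/
  mem : z ∈ invCenter X
  /-- `z` is nontrivial. -/
  ne_one : z ≠ 1
  /-- There are no other central involutions. -/
  cases : ∀ e ∈ invCenter X, e = 1 ∨ e = z
  /-- Squares are central involutions. -/
  sq : ∀ x : X, x * x ∈ invCenter X
  /-- The centre is elementary. -/
  center_le : center X ≤ invCenter X

namespace TwoData

variable {z : X} (T : TwoData A z)
include T

theorem theta_cases (x y : X) : theta x y = 1 ∨ theta x y = z :=
  T.cases _ (T.toSetting.theta_mem x y)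

theorem sq_cases (x : X) : x * x = 1 ∨ x * x = z := T.cases _ (T.sq x)

theorem theta_hom (x y g : X) : theta (x * y) g = theta x g * theta y g := by
  rw [theta_mul_left, theta_eq_one.mpr (invCenter_comm (T.toSetting.theta_mem y g) x), one_mul,
    invCenter_comm (T.toSetting.theta_mem x g) (theta y g)]

theorem theta_swap {x y : X} (h : theta x y = z) : theta y x = z := by
  rcases T.theta_cases y x with h' | h'
  · exfalso
    rw [theta_eq_one.mpr (theta_eq_one.mp h').symm] at h
    exact T.ne_one h.symm
  · exact h'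

theorem theta_self (x : X) : theta x x = 1 := theta_eq_one.mpr rfl

theorem theta_inv (x g : X) : theta x⁻¹ g = theta x g := by
  have h := T.theta_hom x x⁻¹ g
  rw [mul_inv_cancel, show theta 1 g = 1 by simp [theta]] at h
  rw [eq_inv_of_mul_eq_one_right h.symm, invCenter_inv (T.toSetting.theta_mem x g)]

theorem mul_swap {x y : X} (h : theta x y = z) : x * y = z * (y * x) := by
  rw [← h]; simp only [theta]; group

theorem sq_mul {x y : X} (h : theta x y = z) : x * y * (x * y) = z * (x * x) * (y * y) := by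
  calc x * y * (x * y) = x * (y * x) * y := by group
    _ = (x * z) * (x * y) * y := by rw [T.mul_swap (T.theta_swap h)]; group
    _ = z * (x * x) * (y * y) := by rw [invCenter_comm T.mem x]; group

theorem false_of_two {s t : X} (hs : s * s = 1) (ht : t * t = 1) (hst : Commute s t)
    (hsE : s ∉ invCenter X) (htE : t ∉ invCenter X) (hstE : s * t ∉ invCenter X) : False := by
  classical
  set S : Set X := insert s (insert t (invCenter X : Set X)) with hS
  have hcomm : ∀ x ∈ S, ∀ y ∈ S, x * y = y * x := by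
    intro x hx y hy
    rcases hx with rfl | rfl | hx <;> rcases hy with rfl | rfl | hy
    · rfl
    · exact hst.eq
    · exact invCenter_comm hy _
    · exact hst.eq.symm
    · rfl
    · exact invCenter_comm hy _
    · exact (invCenter_comm hx _).symm
    · exact (invCenter_comm hx _).symm
    · exact invCenter_comm hy x
  have hc2 := isMulCommutative_closure hcomm
  have hel : Cfsg.IsElementaryAbelian 2 (closure S) := by
    refine ⟨hc2, fun w hw => ?_⟩
    induction hw using closure_induction with
    | mem x hx =>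
      rcases hx with rfl | rfl | hx
      · rw [pow_two, hs]
      · rw [pow_two, ht]
      · exact (invCenter_isElementaryAbelian (X := X)).2 x hx
    | one => exact one_pow 2
    | mul x y hx hy ihx ihy =>
      rw [(show Commute x y from
        congrArg Subtype.val (hc2.is_comm.comm ⟨x, hx⟩ ⟨y, hy⟩)).mul_pow, ihx, ihy, one_mul]
    | inv x _ ih => rw [inv_pow, ih, inv_one]
  have hEle : invCenter X ≤ closure S := fun e he =>
    subset_closure (Set.mem_insert_of_mem _ (Set.mem_insert_of_mem _ he))
  have hn : (closure S).Normal := ⟨fun w hw g => by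
    have := mul_mem (hEle (T.toSetting.theta_mem g w)) hw
    simpa [theta] using this⟩
  have hle := T.rank _ hn hel
  have : Fintype (closure S) := Fintype.ofFinite _
  have hsS : s ∈ closure S := subset_closure (Set.mem_insert _ _)
  have htS : t ∈ closure S := subset_closure (Set.mem_insert_of_mem _ (Set.mem_insert _ _))
  let L : Finset (closure S) := {1, ⟨z, hEle T.mem⟩, ⟨s, hsS⟩, ⟨t, htS⟩, ⟨s * t, mul_mem hsS htS⟩}
  have hL : L.card = 5 := by
    have n1 : (1 : X) ≠ z := Ne.symm T.ne_one
    have n2 : (1 : X) ≠ s := fun e => hsE (e ▸ one_mem _)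
    have n3 : (1 : X) ≠ t := fun e => htE (e ▸ one_mem _)
    have n5 : z ≠ s := fun e => hsE (e ▸ T.mem)
    have n6 : z ≠ t := fun e => htE (e ▸ T.mem)
    have n7 : z ≠ s * t := fun e => hstE (e ▸ T.mem)
    have n8 : s ≠ t := fun e => hstE (by rw [e, ht]; exact one_mem _)
    have n9 : s ≠ s * t := fun e => htE (by rw [left_eq_mul.mp e]; exact one_mem _)
    have n10 : t ≠ s * t := fun e => hsE (by rw [right_eq_mul.mp e]; exact one_mem _)
    simp [L, Finset.card_insert_of_notMem, Subtype.ext_iff, n1, n2, n3, n5, n6, n7, n8, n9,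
      n10, Ne.symm (fun e : s * t = 1 => hstE (e ▸ one_mem _))]
  have := Finset.card_le_univ L
  rw [hL, ← Nat.card_eq_fintype_card] at this
  omega

theorem not_mem_of_theta {p q : X} (h : theta p q = z) : p ∉ invCenter X := fun hp =>
  T.ne_one (by rw [← h, theta_eq_one.mpr (invCenter_comm hp q).symm])

theorem no_inv_no_inv {x y c d : X} (h1 : theta x y = z) (h2 : theta c d = z)
    (hc : Comm4 x y c d) (hx : x * x = z) (hy : y * y = z) (hc2 : c * c = z) (hd2 : d * d = z) :
    False := by
  obtain ⟨hxc, hxd, hyc, hyd⟩ := hc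
  refine T.false_of_two (s := x * c) (t := y * d) ?_ ?_ ?_ ?_ ?_ ?_
  · rw [hxc.symm.mul_mul_mul_comm, hx, hc2, T.mem.2]
  · rw [hyd.symm.mul_mul_mul_comm, hy, hd2, T.mem.2]
  · show x * c * (y * d) = y * d * (x * c)
    rw [hyc.symm.mul_mul_mul_comm, hxd.symm.mul_mul_mul_comm, T.mul_swap h1, T.mul_swap h2,
      (show Commute (y * x) z from invCenter_comm T.mem _).mul_mul_mul_comm, T.mem.2, one_mul]
  · refine T.not_mem_of_theta (q := y) ?_
    rw [T.theta_hom, h1, theta_eq_one.mpr hyc.symm.eq, mul_one]
  · refine T.not_mem_of_theta (q := x) ?_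
    rw [T.theta_hom, T.theta_swap h1, theta_eq_one.mpr hxd.symm.eq, mul_one]
  · refine T.not_mem_of_theta (q := y) ?_
    rw [T.theta_hom, T.theta_hom, T.theta_hom, h1, theta_eq_one.mpr hyc.symm.eq, T.theta_self,
      theta_eq_one.mpr hyd.symm.eq, mul_one, mul_one, mul_one]

theorem exists_inv {x y : X} (h1 : theta x y = z) (h : ¬ (x * x = z ∧ y * y = z)) :
    ∃ p q, p * p = 1 ∧ theta p q = z ∧ ∀ g, Commute x g → Commute y g →
      Commute p g ∧ Commute q g := by
  rcases T.sq_cases x with hx | hx
  · exact ⟨x, y, hx, h1, fun g a b => ⟨a, b⟩⟩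
  rcases T.sq_cases y with hy | hy
  · exact ⟨y, x, hy, T.theta_swap h1, fun g a b => ⟨b, a⟩⟩
  exact absurd ⟨hx, hy⟩ h

theorem inv_inv_pairs {x y c d : X} (h1 : theta x y = z) (h2 : theta c d = z)
    (hc : Comm4 x y c d) (hx : ¬ (x * x = z ∧ y * y = z)) (hcd : ¬ (c * c = z ∧ d * d = z)) :
    False := by
  obtain ⟨hxc, hxd, hyc, hyd⟩ := hc
  obtain ⟨p, q, hp, hpq, hP⟩ := T.exists_inv h1 hx
  obtain ⟨p', q', hp', hpq', hP'⟩ := T.exists_inv h2 hcd
  obtain ⟨hxp', hxq'⟩ := hP' x hxc.symm hxd.symm
  obtain ⟨hyp', hyq'⟩ := hP' y hyc.symm hyd.symm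
  obtain ⟨hpp', hqp'⟩ := hP p' hxp'.symm hyp'.symm
  refine T.false_of_two hp hp' hpp' (T.not_mem_of_theta hpq) (T.not_mem_of_theta hpq')
    (T.not_mem_of_theta (q := q) ?_)
  rw [T.theta_hom, hpq, theta_eq_one.mpr hqp'.symm.eq, mul_one]

theorem false_of_three {x y c d e f : X} (h1 : theta x y = z) (h2 : theta c d = z)
    (h3 : theta e f = z) (hxc : Comm4 x y c d) (hxe : Comm4 x y e f) (hce : Comm4 c d e f) :
    False := by
  by_cases hA : x * x = z ∧ y * y = z <;> by_cases hB : c * c = z ∧ d * d = z <;>
    by_cases hC : e * e = z ∧ f * f = z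
  · exact T.no_inv_no_inv h1 h2 hxc hA.1 hA.2 hB.1 hB.2
  · exact T.no_inv_no_inv h1 h2 hxc hA.1 hA.2 hB.1 hB.2
  · exact T.no_inv_no_inv h1 h3 hxe hA.1 hA.2 hC.1 hC.2
  · exact T.inv_inv_pairs h2 h3 hce hB hC
  · exact T.no_inv_no_inv h2 h3 hce hB.1 hB.2 hC.1 hC.2
  · exact T.inv_inv_pairs h1 h3 hxe hA hC
  · exact T.inv_inv_pairs h1 h2 hxc hA hB
  · exact T.inv_inv_pairs h1 h2 hxc hA hB

theorem split_pair {x y : X} (h : theta x y = z) (g : X) :
    ∃ i j : Bool, Commute x ((bpow x i * bpow y j)⁻¹ * g) ∧
      Commute y ((bpow x i * bpow y j)⁻¹ * g) ∧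
      ∀ u, Commute x u → Commute y u → Commute u g → Commute u ((bpow x i * bpow y j)⁻¹ * g) := by
  have hy := T.theta_swap h
  have key : ∀ u, theta u x * theta g x = 1 → theta u y * theta g y = 1 →
      Commute x (u⁻¹ * g) ∧ Commute y (u⁻¹ * g) := fun u e1 e2 =>
    ⟨((theta_eq_one.mp (by rw [T.theta_hom, T.theta_inv, e1])) : Commute (u⁻¹ * g) x).symm,
      ((theta_eq_one.mp (by rw [T.theta_hom, T.theta_inv, e2])) : Commute (u⁻¹ * g) y).symm⟩
  have hrest : ∀ i j u, Commute x u → Commute y u → Commute u g →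
      Commute u ((bpow x i * bpow y j)⁻¹ * g) := fun i j u hx hy' hg => by
    refine Commute.mul_right (Commute.inv_right (Commute.mul_right ?_ ?_)) hg <;>
      simp only [bpow] <;> split <;> first | exact Commute.one_right u | exact hx.symm | exact hy'.symm
  have hzz := T.mem.2
  rcases T.theta_cases g x with e1 | e1 <;> rcases T.theta_cases g y with e2 | e2
  · have h0 : ∀ w : X, theta 1 w = 1 := fun w => by simp [theta]
    obtain ⟨k1, k2⟩ := key 1 (by rw [h0, e1, one_mul]) (by rw [h0, e2, one_mul])
    exact ⟨false, false, by simpa [bpow] using k1, by simpa [bpow] using k2, hrest _ _⟩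
  · obtain ⟨k1, k2⟩ := key x (by rw [T.theta_self, e1, one_mul]) (by rw [h, e2, hzz])
    exact ⟨true, false, by simpa [bpow] using k1, by simpa [bpow] using k2, hrest _ _⟩
  · obtain ⟨k1, k2⟩ := key y (by rw [hy, e1, hzz]) (by rw [T.theta_self, e2, one_mul])
    exact ⟨false, true, by simpa [bpow] using k1, by simpa [bpow] using k2, hrest _ _⟩
  · obtain ⟨k1, k2⟩ := key (x * y) (by rw [T.theta_hom, T.theta_self, hy, one_mul, e1, hzz])
      (by rw [T.theta_hom, h, T.theta_self, mul_one, e2, hzz])
    exact ⟨true, true, by simpa [bpow] using k1, by simpa [bpow] using k2, hrest _ _⟩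

theorem mem_or_pair {P : X → Prop} (hP : ∀ c, P c → (∀ d, P d → Commute c d) → c ∈ invCenter X) :
    (∀ g, P g → g ∈ invCenter X) ∨ ∃ c d, P c ∧ P d ∧ theta c d = z := by
  by_cases h : ∀ c, P c → ∀ d, P d → Commute c d
  · exact Or.inl fun g hg => hP g hg (h g hg)
  · push Not at h
    obtain ⟨c, hc, d, hd, hcd⟩ := h
    exact Or.inr ⟨c, d, hc, hd, (T.theta_cases c d).resolve_left fun e => hcd (theta_eq_one.mp e)⟩

theorem bpow_z (i : Bool) : bpow z i ∈ invCenter X := by
  unfold bpow; split
  · exact T.mem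
  · exact one_mem _

theorem eq_bpow {e : X} (he : e ∈ invCenter X) : ∃ m, e = bpow z m := by
  rcases T.cases e he with rfl | rfl
  · exact ⟨false, rfl⟩
  · exact ⟨true, rfl⟩

theorem bpow_z_inj {i j : Bool} (h : bpow z i = bpow z j) : i = j := by
  cases i <;> cases j <;> first | rfl | exact absurd h T.ne_one | exact absurd h.symm T.ne_one

theorem theta_bpow {x g : X} (i : Bool) :
    theta (bpow x i) g = bpow (theta x g) i := by
  cases i <;> simp [bpow, theta]

/-- The extraspecial group of order 32. -/
theorem case_two_pairs {a b c d : X} (h1 : theta a b = z) (h2 : theta c d = z)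
    (hcom : Comm4 a b c d) (hrest : ∀ g, Commute a g → Commute b g → Commute c g → Commute d g →
      g ∈ invCenter X) :
    Nat.card X = 32 ∧ Nat.card {x : X // orderOf x = 2} = 11 := by
  obtain ⟨hac, had, hbc, hbd⟩ := hcom
  -- normalise the pairs
  obtain ⟨a, b, c, d, h1, h2, hac, had, hbc, hbd, ha, hb, hc, hd, hrest⟩ :
      ∃ a b c d : X, theta a b = z ∧ theta c d = z ∧ Commute a c ∧ Commute a d ∧ Commute b c ∧
        Commute b d ∧ a * a = z ∧ b * b = z ∧ c * c = 1 ∧ d * d = 1 ∧
        ∀ g, Commute a g → Commute b g → Commute c g → Commute d g → g ∈ invCenter X := by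
    by_cases hA : a * a = z ∧ b * b = z
    · have hC : ¬ (c * c = z ∧ d * d = z) := fun hC =>
        T.no_inv_no_inv h1 h2 ⟨hac, had, hbc, hbd⟩ hA.1 hA.2 hC.1 hC.2
      rcases T.sq_cases c with hc | hc <;> rcases T.sq_cases d with hd | hd
      · exact ⟨a, b, c, d, h1, h2, hac, had, hbc, hbd, hA.1, hA.2, hc, hd, hrest⟩
      · refine ⟨a, b, c, c * d, h1, by rw [show theta c (c * d) = c * theta c d * c⁻¹ by
          simp only [theta]; group, h2, invCenter_comm T.mem c, mul_inv_cancel_right],
          hac, hac.mul_right had, hbc, hbc.mul_right hbd, hA.1, hA.2, hc,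
          by rw [T.sq_mul h2, hc, hd, mul_one, T.mem.2], fun g x1 x2 x3 x4 => hrest g x1 x2 x3 ?_⟩
        have := x3.inv_left.mul_left x4
        rwa [inv_mul_cancel_left] at this
      · refine ⟨a, b, d, c * d, h1, ?_, had, hac.mul_right had, hbd, hbc.mul_right hbd, hA.1, hA.2,
          hd, by rw [T.sq_mul h2, hd, hc, mul_one, T.mem.2], fun g x1 x2 x3 x4 => hrest g x1 x2 ?_ x3⟩
        · refine T.theta_swap ?_
          rw [T.theta_hom, h2, T.theta_self, mul_one]
        · have := x4.mul_left x3.inv_left
          rwa [mul_inv_cancel_right] at this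
      · exact absurd ⟨hc, hd⟩ hC
    · have hC : c * c = z ∧ d * d = z := by
        by_contra hC
        exact T.inv_inv_pairs h1 h2 ⟨hac, had, hbc, hbd⟩ hA hC
      rcases T.sq_cases a with ha | ha <;> rcases T.sq_cases b with hb | hb
      · exact ⟨c, d, a, b, h2, h1, hac.symm, hbc.symm, had.symm, hbd.symm, hC.1, hC.2, ha, hb,
          fun g x1 x2 x3 x4 => hrest g x3 x4 x1 x2⟩
      · refine ⟨c, d, a, a * b, h2, by rw [show theta a (a * b) = a * theta a b * a⁻¹ by
          simp only [theta]; group, h1, invCenter_comm T.mem a, mul_inv_cancel_right],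
          hac.symm, hac.symm.mul_right hbc.symm, had.symm, had.symm.mul_right hbd.symm, hC.1, hC.2,
          ha, by rw [T.sq_mul h1, ha, hb, mul_one, T.mem.2],
          fun g x1 x2 x3 x4 => hrest g x3 ?_ x1 x2⟩
        have := x3.inv_left.mul_left x4
        rwa [inv_mul_cancel_left] at this
      · refine ⟨c, d, b, a * b, h2, ?_, hbc.symm, hac.symm.mul_right hbc.symm, hbd.symm,
          had.symm.mul_right hbd.symm, hC.1, hC.2, hb, by rw [T.sq_mul h1, hb, ha, mul_one, T.mem.2],
          fun g x1 x2 x3 x4 => hrest g ?_ x3 x1 x2⟩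
        · refine T.theta_swap ?_
          rw [T.theta_hom, h1, T.theta_self, mul_one]
        · have := x4.mul_left x3.inv_left
          rwa [mul_inv_cancel_right] at this
      · exact absurd ⟨ha, hb⟩ hA
  have hsurj : Function.Surjective (word5 z a b c d) := by
    intro g
    obtain ⟨i, j, g1, g2, -⟩ := T.split_pair h1 g
    set g' := (bpow a i * bpow b j)⁻¹ * g with hg'
    obtain ⟨k, l, g3, g4, g5⟩ := T.split_pair h2 g'
    obtain ⟨m, hm⟩ := T.eq_bpow (hrest _ (g5 a hac.symm had.symm g1)
      (g5 b hbc.symm hbd.symm g2) g3 g4)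
    refine ⟨(i, j, k, l, m), ?_⟩
    show bpow a i * bpow b j * (bpow c k * bpow d l) * bpow z m = g
    rw [← hm, hg']
    group
  have ht : ∀ w g, theta (word5 z a b c d w) g = bpow (theta a g) w.1 * bpow (theta b g) w.2.1 *
      (bpow (theta c g) w.2.2.1 * bpow (theta d g) w.2.2.2.1) := by
    intro w g
    unfold word5
    rw [T.theta_hom, theta_eq_one.mpr (invCenter_comm (T.bpow_z _) g).symm, mul_one, T.theta_hom,
      T.theta_hom, T.theta_hom, T.theta_bpow, T.theta_bpow, T.theta_bpow, T.theta_bpow]
  have hb1 : ∀ i, bpow (1 : X) i = 1 := fun i => by cases i <;> rfl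
  have hinj : Function.Injective (word5 z a b c d) := by
    rintro ⟨i, j, k, l, m⟩ ⟨i', j', k', l', m'⟩ he
    have eq : ∀ g, theta (word5 z a b c d (i, j, k, l, m)) g =
        theta (word5 z a b c d (i', j', k', l', m')) g := fun g => by rw [he]
    have hi := eq b
    have hj := eq a
    have hk := eq d
    have hl := eq c
    simp only [ht, T.theta_self, hb1, one_mul, mul_one, theta_eq_one.mpr hbc.symm.eq,
      theta_eq_one.mpr hbd.symm.eq, theta_eq_one.mpr hac.symm.eq, theta_eq_one.mpr had.symm.eq,
      theta_eq_one.mpr hbc.eq, theta_eq_one.mpr hbd.eq, theta_eq_one.mpr hac.eq,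
      theta_eq_one.mpr had.eq, h1, h2, T.theta_swap h1, T.theta_swap h2] at hi hj hk hl
    obtain rfl := T.bpow_z_inj hi
    obtain rfl := T.bpow_z_inj hj
    obtain rfl := T.bpow_z_inj hk
    obtain rfl := T.bpow_z_inj hl
    obtain rfl : m = m' := T.bpow_z_inj (mul_left_cancel he)
    rfl
  let e := Equiv.ofBijective (word5 z a b c d) ⟨hinj, hsurj⟩
  refine ⟨by rw [← Nat.card_congr e]; simp, ?_⟩
  let q : Bool × Bool × Bool × Bool × Bool → Bool := fun w =>
    xor (xor w.1 w.2.1) (xor (w.1 && w.2.1) (w.2.2.1 && w.2.2.2.1))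
  have hq : ∀ w, word5 z a b c d w * word5 z a b c d w = bpow z (q w) := by
    rintro ⟨i, j, k, l, m⟩
    unfold word5
    simp only
    have hcd : Commute (bpow c k * bpow d l) (bpow a i * bpow b j) := by
      refine Commute.mul_left (Commute.mul_right ?_ ?_) (Commute.mul_right ?_ ?_) <;>
        simp only [bpow] <;> split <;> (try split) <;>
        first
        | exact Commute.one_left _
        | exact Commute.one_right _
        | exact hac.symm
        | exact hbc.symm
        | exact had.symm
        | exact hbd.symm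
    rw [(show Commute (bpow z m) (bpow a i * bpow b j * (bpow c k * bpow d l)) from
      (invCenter_comm (T.bpow_z m) _).symm).mul_mul_mul_comm, (T.bpow_z m).2, mul_one,
      hcd.mul_mul_mul_comm]
    have hz2 := T.mem.2
    cases i <;> cases j <;> cases k <;> cases l <;>
      simp [bpow, q, ha, hb, hc, hd, T.sq_mul h1, T.sq_mul h2, hz2]
  have hiff : ∀ x : X, orderOf x = 2 ↔ (e.symm x ≠ (false, false, false, false, false) ∧
      q (e.symm x) = false) := by
    intro x
    obtain ⟨w, rfl⟩ := e.surjective x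
    rw [Equiv.symm_apply_apply, orderOf_eq_iff two_pos]
    have h1' : word5 z a b c d (false, false, false, false, false) = 1 := by simp [word5, bpow]
    constructor
    · rintro ⟨h2', hlt⟩
      refine ⟨fun hw => hlt 1 one_lt_two one_pos ?_, ?_⟩
      · rw [pow_one, hw]; exact h1'
      · rw [pow_two] at h2'
        exact T.bpow_z_inj ((hq w).symm.trans h2')
    · rintro ⟨hw, hqw⟩
      refine ⟨?_, fun m hm hm0 => ?_⟩
      · rw [pow_two]
        exact (hq w).trans (by rw [hqw]; rfl)
      · obtain rfl : m = 1 := by omega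
        rw [pow_one]
        exact fun h => hw (hinj (h.trans h1'.symm))
  rw [Nat.card_congr ((Equiv.subtypeEquivRight hiff).trans
    (e.symm.subtypeEquiv (q := fun w => w ≠ (false, false, false, false, false) ∧ q w = false)
      fun x => Iff.rfl)), Nat.card_eq_fintype_card]
  decide

theorem case_one_pair (hcomm : commutator X = invCenter X) {a b : X} (h1 : theta a b = z)
    (hrest : ∀ g, Commute a g → Commute b g → g ∈ invCenter X) :
    Nonempty (X ≃* QuaternionGroup 2) := by
  classical
  let f : Bool × Bool × Bool → X := fun w => bpow a w.1 * bpow b w.2.1 * bpow z w.2.2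
  have hsurj : Function.Surjective f := by
    intro g
    obtain ⟨i, j, g1, g2, -⟩ := T.split_pair h1 g
    obtain ⟨m, hm⟩ := T.eq_bpow (hrest _ g1 g2)
    refine ⟨(i, j, m), ?_⟩
    show bpow a i * bpow b j * bpow z m = g
    rw [← hm]; group
  have hinj : Function.Injective f := by
    rintro ⟨i, j, m⟩ ⟨i', j', m'⟩ he
    have ht : ∀ i j m g, theta (f (i, j, m)) g = bpow (theta a g) i * bpow (theta b g) j := by
      intro i j m g
      show theta (bpow a i * bpow b j * bpow z m) g = _
      rw [T.theta_hom, theta_eq_one.mpr (invCenter_comm (T.bpow_z _) g).symm, mul_one, T.theta_hom,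
        T.theta_bpow, T.theta_bpow]
    have hb1 : ∀ i, bpow (1 : X) i = 1 := fun i => by cases i <;> rfl
    have hi := (ht i j m b).symm.trans ((congrArg (theta · b) he).trans (ht i' j' m' b))
    have hj := (ht i j m a).symm.trans ((congrArg (theta · a) he).trans (ht i' j' m' a))
    rw [T.theta_self, h1, hb1, hb1, mul_one, mul_one] at hi
    rw [T.theta_self, T.theta_swap h1, hb1, hb1, one_mul, one_mul] at hj
    obtain rfl := T.bpow_z_inj hi
    obtain rfl := T.bpow_z_inj hj
    obtain rfl : m = m' := T.bpow_z_inj (mul_left_cancel he)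
    rfl
  have hcard : Nat.card X = 8 := by
    rw [← Nat.card_congr (Equiv.ofBijective f ⟨hinj, hsurj⟩)]; simp
  -- no involution outside the centre
  have hE2 : Nat.card (invCenter X) = 2 := by
    rw [Nat.card_eq_two_iff]
    refine ⟨⟨1, one_mem _⟩, ⟨z, T.mem⟩, fun h => T.ne_one (congrArg Subtype.val h).symm, ?_⟩
    rw [Set.eq_univ_iff_forall]
    intro e
    rcases T.cases e e.2 with h | h
    · exact Or.inl (Subtype.ext h)
    · exact Or.inr (Subtype.ext h)
  have hEn : (invCenter X).Normal := invCenter_normal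
  have hno : ∀ t : X, t * t = 1 → t ∈ invCenter X := by
    intro t ht
    by_contra htE
    let π := QuotientGroup.mk' (invCenter X)
    have hπ1 : ∀ y, π y = 1 ↔ y ∈ invCenter X := fun y => QuotientGroup.eq_one_iff y
    have hQ : Nat.card (X ⧸ invCenter X) = 4 := by
      have := card_mul_index (invCenter X)
      rw [hE2, index_eq_card, hcard] at this
      omega
    obtain ⟨φ, hφ, hmove⟩ : ∃ φ ∈ A, π (φ t) ≠ π t := by
      by_contra hne
      push Not at hne
      refine htE (hcomm ▸ T.toSetting.mem_commutator_of_fixed_abelianization fun φ hφ => ?_)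
      have h' : t⁻¹ * φ t ∈ invCenter X := (hπ1 _).mp (by rw [map_mul, map_inv, hne φ hφ,
        inv_mul_cancel])
      rw [← hcomm, ← Abelianization.ker_of, MonoidHom.mem_ker, map_mul, map_inv,
        inv_mul_eq_one] at h'
      exact h'.symm
    have hstep : ∀ x y, π x = π y → π (φ x) = π (φ y) := fun x y h => by
      have h' : x⁻¹ * y ∈ invCenter X := (hπ1 _).mp (by rw [map_mul, map_inv, h, inv_mul_cancel])
      have := (hπ1 _).mpr (invCenter_map φ h')
      rw [map_mul, map_inv, map_mul, map_inv, inv_mul_eq_one] at this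
      exact this
    have hback : ∀ x y, π (φ x) = π (φ y) → π x = π y := fun x y h => by
      have h' : (φ x)⁻¹ * φ y ∈ invCenter X := (hπ1 _).mp (by rw [map_mul, map_inv, h, inv_mul_cancel])
      have := (hπ1 _).mpr (invCenter_map φ⁻¹ h')
      rw [map_mul, map_inv, MulAut.inv_apply_self, MulAut.inv_apply_self, map_mul, map_inv,
        inv_mul_eq_one] at this
      exact this
    have h20 : π (φ (φ t)) ≠ π t := by
      intro he
      obtain ⟨m, hm⟩ := T.toSetting.odd_orderOf hφ
      have key : ∀ j : ℕ, π ((φ ^ (2 * j)) t) = π t := by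
        intro j
        induction j with
        | zero => simp
        | succ j ih =>
          rw [show 2 * (j + 1) = 2 + 2 * j from by ring, pow_add, MulAut.mul_apply, pow_two,
            MulAut.mul_apply]
          exact (hstep _ _ (hstep _ _ ih)).trans he
      have h3 : π ((φ ^ orderOf φ) t) = π (φ t) := by
        rw [hm, pow_succ', MulAut.mul_apply]
        exact hstep _ _ (key m)
      rw [pow_orderOf_eq_one, MulAut.one_apply] at h3
      exact hmove h3.symm
    have h21 : π (φ (φ t)) ≠ π (φ t) := fun h => hmove (hback _ _ h)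
    have h1' : ∀ x, x ∉ invCenter X → π x ≠ 1 := fun x hx h => hx ((hπ1 x).mp h)
    have hmap : ∀ x, x ∉ invCenter X → φ x ∉ invCenter X := fun x hx h => hx (by
      have := invCenter_map φ⁻¹ h
      rwa [MulAut.inv_apply_self] at this)
    have : Fintype (X ⧸ invCenter X) := Fintype.ofFinite _
    let S : Finset (X ⧸ invCenter X) := {1, π t, π (φ t), π (φ (φ t))}
    have hS : S.card = 4 := by
      simp [S, Finset.card_insert_of_notMem, Ne.symm (h1' t htE), Ne.symm (h1' _ (hmap t htE)),
        Ne.symm (h1' _ (hmap _ (hmap t htE))), Ne.symm hmove, Ne.symm h20, Ne.symm h21]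
    have hSu : S = Finset.univ := Finset.eq_univ_of_card S (by
      rw [hS, ← Nat.card_eq_fintype_card, hQ])
    have hall : ∀ g : X, g * g = 1 := by
      intro g
      have hg := hSu ▸ Finset.mem_univ (π g)
      simp only [S, Finset.mem_insert, Finset.mem_singleton] at hg
      have hsame : ∀ r : X, r * r = 1 → π g = π r → g * g = 1 := fun r hr he => by
        have h' : r⁻¹ * g ∈ invCenter X := (hπ1 _).mp (by rw [map_mul, map_inv, he, inv_mul_cancel])
        rw [show g = r * (r⁻¹ * g) by group,
          (show Commute (r⁻¹ * g) r from (invCenter_comm h' r).symm).mul_mul_mul_comm, hr, h'.2,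
          one_mul]
      have hp : φ t * φ t = 1 := by rw [← map_mul, ht, map_one]
      have hpp : φ (φ t) * φ (φ t) = 1 := by rw [← map_mul, hp, map_one]
      rcases hg with hg | hg | hg | hg
      · exact ((hπ1 g).mp hg).2
      · exact hsame t ht hg
      · exact hsame _ hp hg
      · exact hsame _ hpp hg
    refine T.ne_one ?_
    have hinv : ∀ g : X, g⁻¹ = g := fun g => inv_eq_of_mul_eq_one_right (hall g)
    rw [← h1, theta, hinv a, hinv b, mul_assoc (a * b)]
    exact hall (a * b)
  have : Fact (Nat.Prime 2) := ⟨Nat.prime_two⟩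
  have hu : TwoGroupsQ.HasUniqueOrderP X 2 := by
    intro x y hx hy hy1
    rw [pow_two] at hx hy
    rcases T.cases x (hno x hx) with rfl | rfl
    · exact one_mem _
    · rcases T.cases y (hno y hy) with rfl | rfl
      · exact absurd rfl hy1
      · exact mem_zpowers _
  rcases TwoGroupsQ.isCyclic_or_quaternion T.pg hu with hc | ⟨-, m, hm, ⟨e⟩⟩
  · exfalso
    obtain ⟨g, hg⟩ := hc.exists_generator
    obtain ⟨i, rfl⟩ := mem_zpowers_iff.mp (hg a)
    obtain ⟨j, rfl⟩ := mem_zpowers_iff.mp (hg b)
    rw [theta_eq_one.mpr ((Commute.refl g).zpow_zpow i j).eq] at h1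
    exact T.ne_one h1.symm
  · have hm1 : m = 1 := by
      have h8 := Nat.card_congr e.toEquiv
      rw [hcard] at h8
      have : NeZero (2 ^ m) := ⟨pow_ne_zero _ two_ne_zero⟩
      rw [Nat.card_eq_fintype_card, QuaternionGroup.card] at h8
      have h2 : 2 ^ m = 2 ^ 1 := by omega
      exact Nat.pow_right_injective le_rfl h2
    subst hm1
    exact ⟨e⟩

/-- The case of a centre of order two. -/
theorem classify (hcomm : commutator X = invCenter X) (hna : ∃ a b : X, a * b ≠ b * a) :
    Nonempty (X ≃* QuaternionGroup 2) ∨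
      (Nat.card X = 32 ∧ Nat.card {x : X // orderOf x = 2} = 11) := by
  obtain ⟨a, b, hab⟩ := hna
  have h1 : theta a b = z := (T.theta_cases a b).resolve_left fun e => hab (theta_eq_one.mp e)
  have hP2 : ∀ u, (Commute a u ∧ Commute b u) →
      (∀ g, (Commute a g ∧ Commute b g) → Commute u g) → u ∈ invCenter X := by
    intro u hu hall
    refine T.center_le (mem_center_iff.mpr fun g => ?_)
    obtain ⟨i, j, g1, g2, -⟩ := T.split_pair h1 g
    have hu' := hall _ ⟨g1, g2⟩
    have hb' : ∀ (p : X) (i : Bool), Commute p u → Commute (bpow p i) u := fun p i hp => by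
      cases i
      · exact Commute.one_left u
      · exact hp
    have := ((hb' a i hu.1).mul_left (hb' b j hu.2)).mul_left hu'.symm
    rw [mul_inv_cancel_left] at this
    exact this.eq
  rcases T.mem_or_pair hP2 with h | ⟨c, d, hc, hd, h2⟩
  · exact Or.inl (T.case_one_pair hcomm h1 fun g x y => h g ⟨x, y⟩)
  · have hcom : Comm4 a b c d := ⟨hc.1, hd.1, hc.2, hd.2⟩
    have hP4 : ∀ u, (Commute a u ∧ Commute b u ∧ Commute c u ∧ Commute d u) →
        (∀ g, (Commute a g ∧ Commute b g ∧ Commute c g ∧ Commute d g) → Commute u g) →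
        u ∈ invCenter X := by
      intro u hu hall
      refine T.center_le (mem_center_iff.mpr fun g => ?_)
      obtain ⟨i, j, g1, g2, -⟩ := T.split_pair h1 g
      set g' := (bpow a i * bpow b j)⁻¹ * g with hg'
      obtain ⟨k, l, g3, g4, g5⟩ := T.split_pair h2 g'
      have hu' := hall _ ⟨g5 a hc.1.symm hd.1.symm g1, g5 b hc.2.symm hd.2.symm g2, g3, g4⟩
      have hb' : ∀ (p : X) (i : Bool), Commute p u → Commute (bpow p i) u := fun p i hp => by
        cases i
        · exact Commute.one_left u
        · exact hp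
      have := ((hb' a i hu.1).mul_left (hb' b j hu.2.1)).mul_left
        (((hb' c k hu.2.2.1).mul_left (hb' d l hu.2.2.2)).mul_left hu'.symm)
      rw [hg', mul_inv_cancel_left, mul_inv_cancel_left] at this
      exact this.eq
    rcases T.mem_or_pair hP4 with h | ⟨e, f, he, hf, h3⟩
    · exact Or.inr (T.case_two_pairs h1 h2 hcom fun g x y u v => h g ⟨x, y, u, v⟩)
    · exact (T.false_of_three h1 h2 h3 hcom ⟨he.1, hf.1, he.2.1, hf.2.1⟩
        ⟨he.2.2.1, hf.2.2.1, he.2.2.2, hf.2.2.2⟩).elim

end TwoData

end CfsgLib.OddAutTwoGroup
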