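import Cfsg.Agent.OddAutTwoGroup.Noncentral

/-!
# A self-centralising proper frame has exponent four
-/

set_option autoImplicit false

open Subgroup

namespace CfsgLib.OddAutTwoGroup

variable {X : Type*} [Group X] [Finite X] {A : Subgroup (MulAut X)} {D : Subgroup X} {α : MulAut X}

namespace Frame

variable (F : Frame A D α)
include F

/-- No involution outside `D` has all its commutators among the central involutions. -/
theorem false_of_involution {t : X} (ht : t * t = 1) (htE : t ∉ invCenter X)
    (hc : ∀ g : X, g * t * g⁻¹ * t⁻¹ ∈ invCenter X) : False := by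
  set S : Set X := insert t (invCenter X : Set X) with hS
  have hE := invCenter_isElementaryAbelian (X := X)
  have hel : Cfsg.IsElementaryAbelian 2 (closure S) := by
    have hcomm : ∀ x ∈ S, ∀ y ∈ S, x * y = y * x := by
      intro x hx y hy
      rcases hx with rfl | hx
      · rcases hy with rfl | hy
        · rfl
        · exact invCenter_comm hy x
      · exact (invCenter_comm hx y).symm
    have hc2 := isMulCommutative_closure hcomm
    refine ⟨hc2, fun z hz => ?_⟩
    induction hz using closure_induction with
    | mem x hx =>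
      rcases hx with rfl | hx
      · rw [pow_two, ht]
      · exact hE.2 x hx
    | one => exact one_pow 2
    | mul x y hx hy ihx ihy =>
      rw [(show Commute x y from
        congrArg Subtype.val (hc2.is_comm.comm ⟨x, hx⟩ ⟨y, hy⟩)).mul_pow, ihx, ihy, one_mul]
    | inv x _ ih => rw [inv_pow, ih, inv_one]
  have hn : (closure S).Normal := by
    refine ⟨fun z hz g => ?_⟩
    induction hz using closure_induction with
    | mem x hx =>
      rcases hx with rfl | hx
      · have := mul_mem (subset_closure (Set.mem_insert_of_mem x (hc g)) :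
          g * x * g⁻¹ * x⁻¹ ∈ closure S) (subset_closure (Set.mem_insert x _))
        rwa [inv_mul_cancel_right] at this
      · rw [invCenter_comm hx g, mul_inv_cancel_right]
        exact subset_closure (Set.mem_insert_of_mem _ hx)
    | one => simp
    | mul x y _ _ ihx ihy => have := mul_mem ihx ihy; simpa [mul_assoc] using this
    | inv x _ ih => have := inv_mem ih; simpa [mul_assoc] using this
  have hle := F.rank _ hn hel
  have hlt : invCenter X < closure S := lt_of_le_of_ne
    (fun e he => subset_closure (Set.mem_insert_of_mem _ he))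
    fun h => htE (h ▸ subset_closure (Set.mem_insert t _))
  refine hlt.ne (eq_of_le_of_card_ge hlt.le ?_)
  rw [F.card_invCenter]
  exact hle

/-- The iterated squares. -/
theorem iter_le (i : ℕ) : sqImage^[i] D ≤ D := by
  induction i with
  | zero => exact le_rfl
  | succ i ih =>
    rw [Function.iterate_succ_apply']
    exact (sqImage_le _).trans ih

theorem iter_map (i : ℕ) : ∀ d ∈ sqImage^[i] D, α d ∈ sqImage^[i] D := by
  induction i with
  | zero => exact fun _ h => F.map_mem h
  | succ i ih =>
    rw [Function.iterate_succ_apply']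
    exact sqImage_map ih

theorem iter_bot_or_le (i : ℕ) :
    sqImage^[i] D = ⊥ ∨ invCenter X ≤ sqImage^[i] D := by
  by_cases h : sqImage^[i] D = ⊥
  · exact Or.inl h
  · exact Or.inr (F.invCenter_le_of_invariant (F.iter_le i) h (F.iter_map i))

theorem iter_eq_bot : sqImage^[Nat.card D] D = ⊥ := by
  have key : ∀ i, sqImage^[i] D = ⊥ ∨ Nat.card (sqImage^[i] D : Subgroup X) * 4 ^ i ≤ Nat.card D := by
    intro i
    induction i with
    | zero => exact Or.inr (by simp)
    | succ i ih =>
      rw [Function.iterate_succ_apply']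
      rcases ih with h | h
      · exact Or.inl (le_bot_iff.mp (h ▸ sqImage_le (sqImage^[i] D)))
      rcases F.iter_bot_or_le i with hb | hle
      · exact Or.inl (le_bot_iff.mp (hb ▸ sqImage_le (sqImage^[i] D)))
      · refine Or.inr ?_
        rw [F.card_eq_mul_sqImage (F.iter_le i) hle] at h
        rw [pow_succ]
        linarith
  rcases key (Nat.card D) with h | h
  · exact h
  exfalso
  have h1 : Nat.card D < 4 ^ Nat.card D := Nat.lt_pow_self (by norm_num)
  have h2 : 1 ≤ Nat.card (sqImage^[Nat.card D] D : Subgroup X) := Nat.card_pos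
  nlinarith

theorem mem_sq_of_quartic (hne : sqImage (sqImage D) ≠ ⊥) {d : X} (hd : d ∈ D)
    (h : d * d * (d * d) = 1) : d ∈ sqImage D := by
  by_contra hd2
  have hc4 : ∀ a ∈ sqImage D, ∀ b ∈ sqImage D, a * b = b * a := fun a ha b hb =>
    F.comm a (sqImage_le D ha) b (sqImage_le D hb)
  have hq : ∀ r ∈ D, r * r * (r * r) = 1 → ∀ e ∈ D, e * r ∈ sqImage D →
      e * e * (e * e) ∈ sqImage (sqImage (sqImage D)) := by
    intro r hr hr4 e he her
    have h1 := mul_self_mem_sqImage (mul_self_mem_sqImage her)
    rw [(show Commute r e from F.comm r hr e he).mul_mul_mul_comm e r,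
      (show Commute (r * r) (e * e) from
        F.comm _ (mul_mem hr hr) _ (mul_mem he he)).mul_mul_mul_comm (e * e) (r * r),
      hr4, mul_one] at h1
    exact h1
  have hle : sqImage (sqImage D) ≤ sqImage (sqImage (sqImage D)) := by
    intro y hy
    obtain ⟨w, hw, rfl⟩ := (mem_sqImage hc4).mp hy
    obtain ⟨e, he, rfl⟩ := (mem_sqImage F.comm).mp hw
    have h1 := F.map_mem hd
    have a1 : α d * α d * (α d * α d) = 1 := by rw [← map_mul, ← map_mul, h, map_one]
    have a2 : α (α d) * α (α d) * (α (α d) * α (α d)) = 1 := by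
      rw [← map_mul, ← map_mul, a1, map_one]
    rcases F.mem_sq_cases_alpha hd hd2 he with hc | hc | hc | hc
    · exact mul_self_mem_sqImage (mul_self_mem_sqImage hc)
    · exact hq d hd h e he hc
    · exact hq _ h1 a1 e he hc
    · exact hq _ (F.map_mem h1) a2 e he hc
  have hE4 : invCenter X ≤ sqImage (sqImage D) :=
    F.invCenter_le_of_invariant ((sqImage_le _).trans (sqImage_le D)) hne (fun _ => F.map_four)
  have hcard := F.card_eq_mul_sqImage ((sqImage_le _).trans (sqImage_le D)) hE4
  have := card_le_of_le hle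
  have : 0 < Nat.card (sqImage (sqImage (sqImage D))) := Nat.card_pos
  omega

theorem theta_mem_of_sq {x : X} (hne : sqImage (sqImage D) ≠ ⊥) (hx2 : x * x ∈ D)
    (hx : ∀ d ∈ D, theta x d ∈ sqImage (sqImage D)) : ∀ d ∈ D, theta x d ∈ invCenter X := by
  have hE4 : invCenter X ≤ sqImage (sqImage D) :=
    F.invCenter_le_of_invariant ((sqImage_le _).trans (sqImage_le D)) hne (fun _ => F.map_four)
  have key : ∀ i, ∀ d ∈ D, ∃ e ∈ invCenter X, theta x d * e ∈ sqImage^[i + 2] D := by
    intro i
    induction i with
    | zero => exact fun d hd => ⟨1, one_mem _, by rw [mul_one]; exact hx d hd⟩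
    | succ i ih =>
      intro d hd
      obtain ⟨c, hc, hcd⟩ := (mem_sqImage F.comm).mp (F.theta_sq x hd)
      have hc2 : c ∈ sqImage D := F.mem_sq_of_sq_mem_four hc (by rw [hcd]; exact hx d hd)
      have hcD := sqImage_le D hc2
      -- `c² · theta x c` is a central involution
      have hε : c * c * theta x c ∈ invCenter X := by
        refine F.omega _ (mul_mem (mul_mem hcD hcD) (F.theta_mem x hcD)) ?_
        have h1 : theta (x * x) d = 1 := theta_eq_one.mpr (F.comm _ hx2 _ hd)
        rw [theta_mul_left, ← hcd, F.theta_mul_right x hc hc] at h1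
        rw [(show Commute (theta x c) (c * c) from F.comm _ (F.theta_mem x hcD) _
          (mul_mem hcD hcD)).mul_mul_mul_comm, ← h1,
          F.comm _ (mul_mem (mul_mem hcD hcD) (mul_mem hcD hcD)) _
            (mul_mem (F.theta_mem x hcD) (F.theta_mem x hcD))]
        group
      obtain ⟨w, hw, hwc⟩ := (mem_sqImage F.comm).mp hc2
      obtain ⟨e, he, hew⟩ := ih w hw
      have hθc : theta x c ∈ sqImage^[i + 1 + 2] D := by
        rw [← hwc, F.theta_mul_right x hw hw, show i + 1 + 2 = (i + 2) + 1 from rfl,
          Function.iterate_succ_apply']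
        have h2 := mul_self_mem_sqImage hew
        rwa [(show Commute e (theta x w) from (invCenter_comm he _).symm).mul_mul_mul_comm, he.2,
          mul_one] at h2
      refine ⟨c * c * theta x c, hε, ?_⟩
      rw [← hcd, ← mul_assoc, (show Commute (c * c * (c * c)) (theta x c) from
        F.comm _ (mul_mem (mul_mem hcD hcD) (mul_mem hcD hcD)) _ (F.theta_mem x hcD)).eq]
      have h3 : c * c * (c * c) = (theta x c * theta x c)⁻¹ := by
        refine eq_inv_of_mul_eq_one_left ?_
        rw [← (show Commute (theta x c) (c * c) from F.comm _ (F.theta_mem x hcD) _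
          (mul_mem hcD hcD)).mul_mul_mul_comm]
        exact hε.2
      rw [h3]
      exact mul_mem hθc (inv_mem (mul_mem hθc hθc))
  intro d hd
  obtain ⟨e, he, hmem⟩ := key (Nat.card D) d hd
  have hbot : sqImage^[Nat.card D + 2] D = ⊥ := by
    rw [Function.iterate_succ_apply', Function.iterate_succ_apply', F.iter_eq_bot]
    exact le_bot_iff.mp ((sqImage_le _).trans (sqImage_le _))
  rw [hbot, mem_bot] at hmem
  rw [eq_inv_of_mul_eq_one_left hmem]
  exact inv_mem he

theorem exists_kernel (htop : ∃ x, x ∉ D) (hne : sqImage (sqImage D) ≠ ⊥) :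
    ∃ x, x ∉ D ∧ x * x ∈ D ∧ ∀ d ∈ D, theta x d ∈ sqImage (sqImage D) := by
  have hE4 : invCenter X ≤ sqImage (sqImage D) :=
    F.invCenter_le_of_invariant ((sqImage_le _).trans (sqImage_le D)) hne (fun _ => F.map_four)
  let K : Subgroup X :=
    { carrier := {x | ∀ d ∈ D, theta x d ∈ sqImage (sqImage D)}
      one_mem' := fun d _ => by simp [theta]
      mul_mem' := fun {a b} ha hb d hd => by
        rw [theta_mul_left]
        exact mul_mem (mul_mem (F.theta_four a (F.theta_sq b hd)) (hb d hd)) (ha d hd)
      inv_mem' := fun {a} ha d hd => by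
        have h := theta_mul_left a a⁻¹ d
        rw [mul_inv_cancel, show theta 1 d = 1 by simp [theta]] at h
        rw [eq_comm, mul_eq_one_iff_eq_inv] at h
        have h2 : theta a⁻¹ d = (theta a (theta a⁻¹ d))⁻¹ * (theta a d)⁻¹ := by
          rw [← h]; group
        rw [h2]
        exact mul_mem (inv_mem (F.theta_four a (F.theta_sq a⁻¹ hd))) (inv_mem (ha d hd)) }
  by_cases hKD : K ≤ D
  · exfalso
    have hsqD : ∀ x, x * x ∈ D := fun x => hKD fun d hd => by
      rw [theta_mul_left, mul_assoc]
      exact mul_mem (F.theta_four x (F.theta_sq x hd)) (mul_self_mem_sqImage (F.theta_sq x hd))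
    obtain ⟨x, hx⟩ := htop
    obtain ⟨d, hd, hd2⟩ := F.exists_not_mem_sq
    -- `theta x e ≡ e²` modulo `D⁴`
    have hinj : ∀ e ∈ D, e ∉ sqImage D → theta x e ∉ sqImage (sqImage D) := fun e he he2 h4 =>
      hx (hKD fun f hf => F.theta_zero_of_kernel x he he2 h4 hf)
    have hmain : ∀ e ∈ D, theta x e * (e * e) ∈ sqImage (sqImage D) := by
      intro e he
      obtain ⟨c, hc, hcd⟩ := (mem_sqImage F.comm).mp (F.theta_sq x he)
      have h1 : theta (x * x) e = 1 := theta_eq_one.mpr (F.comm _ (hsqD x) _ he)
      rw [theta_mul_left, ← hcd, F.theta_mul_right x hc hc] at h1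
      have hε : c * c * theta x c ∈ invCenter X := by
        refine F.omega _ (mul_mem (mul_mem hc hc) (F.theta_mem x hc)) ?_
        rw [(show Commute (theta x c) (c * c) from F.comm _ (F.theta_mem x hc) _
          (mul_mem hc hc)).mul_mul_mul_comm, ← h1,
          F.comm _ (mul_mem (mul_mem hc hc) (mul_mem hc hc)) _
            (mul_mem (F.theta_mem x hc) (F.theta_mem x hc))]
        group
      have h2 : theta x (e * c) ∈ sqImage (sqImage D) := by
        rw [F.theta_mul_right x he hc, ← hcd]
        exact hE4 hε
      have h3 : e * c ∈ sqImage D := by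
        by_contra h
        exact hinj _ (mul_mem he hc) h h2
      have h4 := mul_self_mem_sqImage h3
      rw [(show Commute c e from F.comm c hc e he).mul_mul_mul_comm, hcd] at h4
      rwa [F.comm _ (F.theta_mem x he) _ (mul_mem he he)]
    have h1 := F.map_mem hd
    have h2 := F.map_mem h1
    have e0 := hmain d hd
    have e1 := F.map_four (hmain _ h2)
    have e2 := F.map_four (F.map_four (hmain _ h1))
    rw [map_mul, map_mul, F.cube hd] at e1
    rw [map_mul, map_mul, map_mul, map_mul, F.cube hd] at e2
    have hprod := mul_mem (mul_mem e0 e1) e2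
    have hT := F.trace_mem x hd
    have m0 := F.theta_mem x hd
    have m1 := F.map_mem (F.theta_mem x h2)
    have m2 := F.map_mem (F.map_mem (F.theta_mem x h1))
    have hdd := mul_mem hd hd
    rw [(show Commute (d * d) (α (theta x (α (α d)))) from F.comm _ hdd _ m1).mul_mul_mul_comm,
      (show Commute (d * d * (d * d)) (α (α (theta x (α d)))) from
        F.comm _ (mul_mem hdd hdd) _ m2).mul_mul_mul_comm,
      (sqImage (sqImage D)).mul_mem_cancel_left hT] at hprod
    have h4 : d * d * (d * d) ∈ sqImage (sqImage D) :=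
      mul_self_mem_sqImage (mul_self_mem_sqImage hd)
    exact hd2 (F.mem_sq_of_sq_mem_four hd ((Subgroup.mul_mem_cancel_left _ h4).mp hprod))
  · obtain ⟨x₀, hx₀, hx₀D⟩ := SetLike.not_le_iff_exists.mp hKD
    obtain ⟨k, hk⟩ := F.pg x₀
    classical
    have hex : ∃ m, x₀ ^ 2 ^ m ∈ D := ⟨k, by rw [hk]; exact one_mem D⟩
    obtain ⟨m, hm⟩ : ∃ m, Nat.find hex = m + 1 := by
      rcases h : Nat.find hex with - | m
      · have := Nat.find_spec hex
        rw [h, pow_zero, pow_one] at this
        exact absurd this hx₀D
      · exact ⟨m, rfl⟩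
    refine ⟨x₀ ^ 2 ^ m, Nat.find_min hex (by omega), ?_, pow_mem hx₀ _⟩
    rw [← pow_add, ← two_mul, ← pow_succ', ← hm]
    exact Nat.find_spec hex

/-- A self-centralising proper frame has `D⁴ = 1`. -/
theorem sqImage_sqImage_eq_bot (hself : ∀ x, (∀ d ∈ D, x * d = d * x) → x ∈ D)
    (htop : ∃ x, x ∉ D) : sqImage (sqImage D) = ⊥ := by
  by_contra hne
  have hE4 : invCenter X ≤ sqImage (sqImage D) :=
    F.invCenter_le_of_invariant ((sqImage_le _).trans (sqImage_le D)) hne (fun _ => F.map_four)
  obtain ⟨x, hxD, hx2, hx4⟩ := F.exists_kernel htop hne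
  have hxE := F.theta_mem_of_sq hne hx2 hx4
  have hθmul : ∀ a b, ∀ d ∈ D, theta b d ∈ invCenter X →
      theta (a * b) d = theta b d * theta a d := fun a b d _ hb => by
    rw [theta_mul_left, theta_eq_one.mpr (invCenter_comm hb a), one_mul]
  -- a `t` with kernel exactly `D²`
  obtain ⟨t, htE, ht⟩ : ∃ t, (∀ d ∈ D, theta t d ∈ invCenter X) ∧
      ∀ d ∈ D, theta t d = 1 → d ∈ sqImage D := by
    by_cases hinj : ∀ d ∈ D, theta x d = 1 → d ∈ sqImage D
    · exact ⟨x, hxE, hinj⟩
    push Not at hinj
    obtain ⟨d, hd, hd1, hd2⟩ := hinj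
    have hα2 : α * α ∈ A := mul_mem F.mem F.mem
    have htr : ∀ e ∈ D, theta (α x) e = α (theta x (α (α e))) := fun e he => by
      conv_lhs => rw [← F.cube he, theta_map]
    have htr2 : ∀ e ∈ D, theta (α (α x)) e = α (α (theta x (α e))) := fun e he => by
      conv_lhs => rw [← F.cube he, theta_map, theta_map]
    refine ⟨x * α x * α (α x), fun e he => ?_, ?_⟩
    · rw [hθmul _ _ e he (by rw [htr2 e he]; exact invCenter_map α (invCenter_map α (hxE _ (F.map_mem he)))),
        hθmul _ _ e he (by rw [htr e he]; exact invCenter_map α (hxE _ (F.map_mem (F.map_mem he)))),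
        htr e he, htr2 e he]
      exact mul_mem (invCenter_map α (invCenter_map α (hxE _ (F.map_mem he))))
        (mul_mem (invCenter_map α (hxE _ (F.map_mem (F.map_mem he)))) (hxE e he))
    have hS : ∀ e ∈ D, theta (x * α x * α (α x)) e =
        α (α (theta x (α e))) * (α (theta x (α (α e))) * theta x e) := fun e he => by
      rw [hθmul _ _ e he (by rw [htr2 e he]; exact invCenter_map α (invCenter_map α (hxE _ (F.map_mem he)))),
        hθmul _ _ e he (by rw [htr e he]; exact invCenter_map α (hxE _ (F.map_mem (F.map_mem he)))),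
        htr e he, htr2 e he]
    set t := x * α x * α (α x)
    have h1 := F.map_mem hd
    have h2 := F.map_mem h1
    set f := theta x (α d) with hf
    have hfE : f ∈ invCenter X := hxE _ h1
    have hn : theta x d * f * theta x (α (α d)) = 1 := by
      rw [hf, ← F.theta_mul_right x hd h1, ← F.theta_mul_right x (mul_mem hd h1) h2,
        F.norm_eq_one hd, theta_one_right]
    rw [hd1, one_mul, mul_eq_one_iff_eq_inv] at hn
    have hf2 : theta x (α (α d)) = f := by
      rw [← invCenter_inv hfE, hn, inv_inv]
    have hf1 : f ≠ 1 := by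
      intro hf0
      refine hxD (hself x fun e he => theta_eq_one.mp ?_)
      have hsq : ∀ c ∈ sqImage D, theta x c = 1 := by
        intro c hc
        obtain ⟨w, hw, rfl⟩ := (mem_sqImage F.comm).mp hc
        rw [F.theta_mul_right x hw hw, (hxE w hw).2]
      have key : ∀ r ∈ D, theta x r = 1 → e * r ∈ sqImage D → theta x e = 1 := fun r hr hr1 her => by
        have := hsq _ her
        rwa [F.theta_mul_right x he hr, hr1, mul_one] at this
      rcases F.mem_sq_cases_alpha hd hd2 he with h | h | h | h
      · exact hsq e h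
      · exact key d hd hd1 h
      · exact key _ h1 hf0 h
      · exact key _ h2 (by rw [hf2, hf0]) h
    have htd : theta t d = f := by
      rw [hS d hd, hd1, mul_one, hf2, ← hf]
      have h3 := F.norm_eq_one (F.sub hfE)
      rw [mul_assoc, mul_eq_one_iff_eq_inv'] at h3
      rw [(show Commute (α (α f)) (α f) from
        F.comm _ (F.map_mem (F.map_mem (F.sub hfE))) _ (F.map_mem (F.sub hfE))).eq, h3,
        invCenter_inv hfE]
    have hinv' : ∀ e ∈ D, theta t (α e) = α (theta t e) := by
      intro e he
      have g1 := F.map_mem he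
      have g2 := F.map_mem g1
      rw [hS _ g1, hS _ he, map_mul, map_mul, F.cube he,
        F.cube (F.theta_mem x g1)]
      have k0 := F.map_mem (F.theta_mem x he)
      have k1 := F.theta_mem x g1
      have k2 := F.map_mem (F.map_mem (F.theta_mem x g2))
      rw [F.comm _ k2 _ (mul_mem k0 k1), F.comm _ k0 _ k1, mul_assoc,
        F.comm _ k0 _ k2]
    intro e he he1
    by_contra he2
    have hsq : ∀ c ∈ sqImage D, theta t c = 1 := by
      intro c hc
      obtain ⟨w, hw, rfl⟩ := (mem_sqImage F.comm).mp hc
      rw [hS _ (mul_mem hw hw), map_mul, map_mul α (α w), F.theta_mul_right x (F.map_mem hw) (F.map_mem hw),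
        F.theta_mul_right x (F.map_mem (F.map_mem hw)) (F.map_mem (F.map_mem hw)),
        F.theta_mul_right x hw hw, (hxE w hw).2, (hxE _ (F.map_mem hw)).2,
        (hxE _ (F.map_mem (F.map_mem hw))).2, map_one, map_one, one_mul, one_mul]
    have key : ∀ r ∈ D, theta t r ≠ 1 → e * r ∈ sqImage D → False := fun r hr hr1 her => by
      have := hsq _ her
      rw [F.theta_mul_right t he hr, he1, one_mul] at this
      exact hr1 this
    rcases F.mem_sq_cases_alpha hd hd2 he with h | h | h | h
    · exact he2 h
    · exact key d hd (htd ▸ hf1) h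
    · exact key _ h1 (by rw [hinv' d hd, htd, Ne, map_eq_one_iff α α.injective]; exact hf1) h
    · exact key _ h2 (by
        rw [hinv' _ h1, hinv' d hd, htd, Ne, map_eq_one_iff α α.injective,
          map_eq_one_iff α α.injective]
        exact hf1) h
  have httD : t * t ∈ D := hself _ fun d hd => theta_eq_one.mp (by
    rw [hθmul t t d hd (htE d hd), (htE d hd).2])
  have htt2 : t * t ∈ sqImage D := ht _ httD (theta_eq_one.mpr (by group))
  -- an involution in `t D`
  obtain ⟨d, hd, hψ⟩ : ∃ d ∈ D, d * d * theta t d = (t * t)⁻¹ := by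
    let ψ : D →* X :=
      { toFun := fun d => (d : X) * d * theta t d
        map_one' := by simp [theta]
        map_mul' := fun a b => by
          show (a : X) * b * ((a : X) * b) * theta t ((a : X) * b) = _
          rw [F.theta_mul_right t a.2 b.2,
            (show Commute (b : X) a from F.comm _ b.2 _ a.2).mul_mul_mul_comm,
            (show Commute ((b : X) * b) (theta t a) from
              F.comm _ (mul_mem b.2 b.2) _ (F.theta_mem t a.2)).mul_mul_mul_comm] }
    have hr : ψ.range ≤ sqImage D := by
      rintro _ ⟨d, rfl⟩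
      exact mul_mem (mul_self_mem_sqImage d.2) (F.theta_sq t d.2)
    have hkerE : ∀ d : D, ψ d = 1 → (d : X) ∈ invCenter X := by
      intro d hd
      have h1 : (d : X) * d = theta t d := by
        rw [← invCenter_inv (htE d d.2)]
        exact eq_inv_of_mul_eq_one_left hd
      have h4 := mem_sq_of_quartic F hne d.2 (by rw [h1]; exact (htE d d.2).2)
      have h5 : theta t (d : X) = 1 := by
        obtain ⟨w, hw, hwd⟩ := (mem_sqImage F.comm).mp h4
        rw [← hwd, F.theta_mul_right t hw hw, (htE w hw).2]
      exact F.omega _ d.2 (h1.trans h5)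
    have hker : Nat.card ψ.ker ≤ 4 := by
      rw [← F.card_invCenter]
      exact Nat.card_le_card_of_injective
        (fun d => (⟨((d : D) : X), hkerE d (MonoidHom.mem_ker.mp d.2)⟩ : invCenter X))
        (fun a b hab => Subtype.ext (Subtype.ext
          (congrArg (fun z : invCenter X => (z : X)) hab)))
    have hcard := card_mul_index ψ.ker
    rw [index_eq_card, Nat.card_congr (QuotientGroup.quotientKerEquivRange ψ).toEquiv,
      F.card_eq_mul_sqImage le_rfl F.sub] at hcard
    have heq : ψ.range = sqImage D := eq_of_le_of_card_ge hr (by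
      have h1 : 0 < Nat.card ψ.range := Nat.card_pos
      nlinarith)
    obtain ⟨d, hd⟩ := (heq ▸ inv_mem htt2 : (t * t)⁻¹ ∈ ψ.range)
    exact ⟨d, d.2, hd⟩
  set s := t * d with hs
  have hs2 : s * s = 1 := by
    rw [hs, show t * d * (t * d) = theta t d * d * (t * t) * d by simp only [theta]; group,
      mul_assoc _ (t * t) d, F.comm _ httD _ hd, ← mul_assoc, mul_assoc (theta t d),
      F.comm _ (F.theta_mem t hd) _ (mul_mem hd hd), hψ, inv_mul_cancel]
  have hθs : ∀ e ∈ D, theta s e = theta t e := fun e he => by
    rw [hs, theta_mul_left, theta_eq_one.mpr (F.comm d hd e he), theta_one_right, one_mul, one_mul]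
  have hsD : s ∉ D := by
    intro h
    obtain ⟨e, he, he2⟩ := F.exists_not_mem_sq
    exact he2 (ht e he ((hθs e he).symm.trans (theta_eq_one.mpr (F.comm s h e he))))
  refine F.false_of_involution hs2 (fun h => hsD (F.sub h)) fun g => ?_
  set c := g * s * g⁻¹ * s⁻¹ with hcdef
  have hcD : c ∈ D := by
    refine hself _ fun e he => ?_
    have hgs : ∀ e ∈ D, g * s * e * (g * s)⁻¹ = s * g * e * (s * g)⁻¹ := by
      intro e he
      have h1 : g * s * e * (g * s)⁻¹ = theta s e * (g * e * g⁻¹) := by
        have := invCenter_comm (htE e he) g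
        rw [← hθs e he] at this
        calc g * s * e * (g * s)⁻¹ = g * theta s e * (e * g⁻¹) := by simp only [theta]; group
          _ = _ := by rw [this]; group
      have hge := F.normal.conj_mem e he g
      have h2 : s * g * e * (s * g)⁻¹ = theta s (g * e * g⁻¹) * (g * e * g⁻¹) := by
        simp only [theta]; group
      rw [h1, h2]
      congr 1
      have hsq := F.conj_mem_sq g he
      obtain ⟨w, hw, hwe⟩ := (mem_sqImage F.comm).mp hsq
      have h3 : g * e * g⁻¹ = w * w * e := by rw [hwe]; group
      rw [h3, F.theta_mul_right s (mul_mem hw hw) he, F.theta_mul_right s hw hw, hθs w hw,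
        (htE w hw).2, one_mul]
    have he' := F.normal.conj_mem e he (s * g)⁻¹
    rw [inv_inv] at he'
    have := hgs _ he'
    rw [show s * g * ((s * g)⁻¹ * e * (s * g)) * (s * g)⁻¹ = e by group] at this
    refine mul_inv_eq_iff_eq_mul.mp ?_
    rw [hcdef]
    refine Eq.trans ?_ this
    group
  refine F.omega c hcD ?_
  have hcs : c * s = g * s * g⁻¹ := by rw [hcdef]; group
  have h1 : c * s * (c * s) = 1 := by
    rw [hcs, show g * s * g⁻¹ * (g * s * g⁻¹) = g * (s * s) * g⁻¹ by group, hs2, mul_one,
      mul_inv_cancel]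
  have h2 : c * c * theta s c = 1 := by
    rw [mul_assoc, F.comm _ hcD _ (F.theta_mem s hcD)]
    calc c * (theta s c * c) = c * s * c * s⁻¹ := by simp only [theta]; group
      _ = c * s * (c * s) * (s * s)⁻¹ := by group
      _ = 1 := by rw [h1, hs2, inv_one, one_mul]
  rw [hθs c hcD] at h2
  have h3 : c * c = theta t c := by
    rw [← invCenter_inv (htE c hcD)]
    exact eq_inv_of_mul_eq_one_left h2
  have h4 := mem_sq_of_quartic F hne hcD (by rw [h3]; exact (htE c hcD).2)
  obtain ⟨w, hw, hwc⟩ := (mem_sqImage F.comm).mp h4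
  rw [h3, ← hwc, F.theta_mul_right t hw hw, (htE w hw).2]

end Frame

end CfsgLib.OddAutTwoGroup
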