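import Cfsg.Agent.OddAutTwoGroup.Basic

/-!
# An invariant abelian normal subgroup `D` with `A` moving its involutions

`Frame`: `D` is normal, abelian, `A`-invariant, its involutions are those of `Z(X)` and are moved
by `α ∈ A`. Then `D / D²` is a four-group on which `α` acts without fixed points.
-/

set_option autoImplicit false

open Subgroup

namespace CfsgLib.OddAutTwoGroup

variable {X : Type*} [Group X]

/-- The subgroup generated by the squares of `D`. -/
def sqImage (D : Subgroup X) : Subgroup X :=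
  closure ((fun d => d * d) '' (D : Set X))

theorem mul_self_mem_sqImage {D : Subgroup X} {d : X} (hd : d ∈ D) : d * d ∈ sqImage D :=
  subset_closure ⟨d, hd, rfl⟩

theorem sqImage_le (D : Subgroup X) : sqImage D ≤ D :=
  (closure_le _).mpr (by rintro _ ⟨d, hd, rfl⟩; exact mul_mem hd hd)

theorem sqImage_mono {D K : Subgroup X} (h : D ≤ K) : sqImage D ≤ sqImage K :=
  closure_mono (Set.image_mono h)

theorem mem_sqImage {D : Subgroup X} (hD : ∀ a ∈ D, ∀ b ∈ D, a * b = b * a) {y : X} :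
    y ∈ sqImage D ↔ ∃ d ∈ D, d * d = y := by
  refine ⟨fun hy => ?_, fun ⟨d, hd, e⟩ => e ▸ mul_self_mem_sqImage hd⟩
  induction hy using closure_induction with
  | mem x hx => exact hx
  | one => exact ⟨1, one_mem D, one_mul 1⟩
  | mul a b _ _ iha ihb =>
    obtain ⟨u, hu, rfl⟩ := iha
    obtain ⟨v, hv, rfl⟩ := ihb
    exact ⟨u * v, mul_mem hu hv, (show Commute v u from hD v hv u hu).mul_mul_mul_comm u v⟩
  | inv a _ iha =>
    obtain ⟨u, hu, rfl⟩ := iha
    exact ⟨u⁻¹, inv_mem hu, (mul_inv_rev u u).symm⟩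

theorem sqImage_map {D : Subgroup X} {φ : MulAut X} (h : ∀ d ∈ D, φ d ∈ D) :
    ∀ d ∈ sqImage D, φ d ∈ sqImage D := by
  intro d hd
  induction hd using closure_induction with
  | mem x hx =>
    obtain ⟨u, hu, rfl⟩ := hx
    rw [map_mul]
    exact mul_self_mem_sqImage (h u hu)
  | one => rw [map_one]; exact one_mem _
  | mul a b _ _ iha ihb => rw [map_mul]; exact mul_mem iha ihb
  | inv a _ iha => rw [map_inv]; exact inv_mem iha

theorem sqImage_normal {D : Subgroup X} (h : D.Normal) : (sqImage D).Normal := by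
  refine ⟨fun d hd g => ?_⟩
  exact sqImage_map (φ := MulAut.conj g) (fun e he => h.conj_mem e he g) d hd

variable [Finite X]

/-- The setting of the file. -/
structure Frame (A : Subgroup (MulAut X)) (D : Subgroup X) (α : MulAut X) : Prop
    extends Setting A where
  /-- `D` is normal. -/
  normal : D.Normal
  /-- `D` is abelian. -/
  comm : ∀ a ∈ D, ∀ b ∈ D, a * b = b * a
  /-- `D` is `A`-invariant. -/
  inv : ∀ φ ∈ A, ∀ d ∈ D, φ d ∈ D
  /-- `α` is in `A`. -/
  mem : α ∈ A
  /-- The involutions of `D` are central. -/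
  omega : ∀ d ∈ D, d * d = 1 → d ∈ invCenter X
  /-- `D` contains the central involutions. -/
  sub : invCenter X ≤ D
  /-- `α` moves a central involution. -/
  moves : ∃ u ∈ invCenter X, α u ≠ u
  /-- `D` is not elementary. -/
  ne : ¬ D ≤ invCenter X

namespace Frame

variable {A : Subgroup (MulAut X)} {D : Subgroup X} {α : MulAut X} (F : Frame A D α)
include F

theorem map_mem {d : X} (hd : d ∈ D) : α d ∈ D := F.inv α F.mem d hd

theorem map_sq {d : X} (hd : d ∈ sqImage D) : α d ∈ sqImage D :=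
  sqImage_map (fun _ h => F.map_mem h) d hd

theorem exists_u : ∃ u ∈ invCenter X, u ≠ 1 ∧ α u ≠ u := by
  obtain ⟨u, hu, hm⟩ := F.moves
  exact ⟨u, hu, fun h => hm (by rw [h, map_one]), hm⟩

theorem card_invCenter : Nat.card (invCenter X) = 4 := by
  obtain ⟨u, hu, hu1, hm⟩ := F.exists_u
  exact (F.toSetting.orbit F.toSetting.card_invCenter_le F.mem (fun _ he => invCenter_map α he)
    hu hu1 hm).2.2.1

theorem eq_one_of_fixed_invCenter {e : X} (he : e ∈ invCenter X) (hfix : α e = e) : e = 1 := by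
  obtain ⟨u, hu, hu1, hm⟩ := F.exists_u
  obtain ⟨h3, hall, -, h20⟩ := F.toSetting.orbit F.toSetting.card_invCenter_le F.mem
    (fun _ he => invCenter_map α he) hu hu1 hm
  rcases hall e he with rfl | rfl | rfl | rfl
  · rfl
  · exact absurd hfix hm
  · exact absurd (α.injective hfix) hm
  · exact absurd (α.injective (α.injective hfix)) hm

theorem eq_one_of_fixed {d : X} (hd : d ∈ D) (hfix : α d = d) : d = 1 := by
  suffices ∀ k, ∀ d ∈ D, α d = d → d ^ 2 ^ k = 1 → d = 1 by
    obtain ⟨k, hk⟩ := F.pg d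
    exact this k d hd hfix hk
  intro k
  induction k with
  | zero => exact fun d _ _ hk => by rwa [pow_zero, pow_one] at hk
  | succ k ih =>
    intro d hd hfix hk
    have h2 : d * d = 1 := ih _ (mul_mem hd hd) (by rw [map_mul, hfix]) (by
      rw [← pow_two, ← pow_mul, ← pow_succ']; exact hk)
    exact F.eq_one_of_fixed_invCenter (F.omega d hd h2) hfix

theorem cube {d : X} (hd : d ∈ D) : α (α (α d)) = d := by
  have h : (α ^ 3) d = d := by
    refine F.toSetting.fix_of_fix_omega F.comm (pow_mem F.mem 3) (F.inv _ (pow_mem F.mem 3))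
      (fun e he he2 => ?_) hd
    obtain ⟨u, hu, hu1, hm⟩ := F.exists_u
    obtain ⟨h3, hall, -, -⟩ := F.toSetting.orbit F.toSetting.card_invCenter_le F.mem
      (fun _ he => invCenter_map α he) hu hu1 hm
    have h3' : ∀ x, (α ^ 3) x = α (α (α x)) := fun x => rfl
    rcases hall e (F.omega e he he2) with rfl | rfl | rfl | rfl
    · rw [map_one]
    · rw [h3', h3]
    · rw [h3', h3]
    · rw [h3', h3]
  exact h

theorem norm_eq_one {d : X} (hd : d ∈ D) : d * α d * α (α d) = 1 := by
  refine F.eq_one_of_fixed (mul_mem (mul_mem hd (F.map_mem hd)) (F.map_mem (F.map_mem hd))) ?_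
  rw [map_mul, map_mul, F.cube hd,
    F.comm _ (mul_mem (F.map_mem hd) (F.map_mem (F.map_mem hd))) _ hd, mul_assoc]

/-- Every element of `A` acts on `D` as a power of `α`. -/
theorem agree {φ : MulAut X} (hφ : φ ∈ A) : (∀ d ∈ D, φ d = d) ∨ (∀ d ∈ D, φ d = α d) ∨
    (∀ d ∈ D, φ d = α (α d)) := by
  obtain ⟨u, hu, hu1, hm⟩ := F.exists_u
  obtain ⟨h3, hall, -, -⟩ := F.toSetting.orbit F.toSetting.card_invCenter_le F.mem
    (fun _ he => invCenter_map α he) hu hu1 hm
  have key : ∀ ψ ∈ A, ψ u = u → ∀ d ∈ D, ψ d = d := by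
    intro ψ hψ hψu d hd
    refine F.toSetting.fix_of_fix_omega F.comm hψ (F.inv _ hψ) (fun e he he2 => ?_) hd
    by_contra hne
    have he1 : e ≠ 1 := fun h => hne (by rw [h, map_one])
    obtain ⟨-, hall', -, -⟩ := F.toSetting.orbit F.toSetting.card_invCenter_le hψ
      (fun _ he => invCenter_map ψ he) (F.omega e he he2) he1 hne
    rcases hall' u hu with h | h | h | h
    · exact hu1 h
    · exact hne (by rw [← h, hψu])
    · refine hne ?_
      conv_rhs => rw [← ψ.injective (hψu.trans h)]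
      rw [h]
    · have h' : u = ψ e := ψ.injective (hψu.trans h)
      exact hne (h'.symm.trans (ψ.injective (hψu.trans h')))
  have hαu : ∀ x, (α * α) x = α (α x) := fun _ => rfl
  rcases hall (φ u) (invCenter_map φ hu) with h | h | h | h
  · exact absurd ((map_eq_one_iff φ φ.injective).mp h) hu1
  · exact Or.inl (key φ hφ h)
  · refine Or.inr (Or.inl fun d hd => ?_)
    have := key (α⁻¹ * φ) (mul_mem (inv_mem F.mem) hφ)
      (by rw [MulAut.mul_apply, h, MulAut.inv_apply_self]) d hd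
    rw [MulAut.mul_apply] at this
    conv_rhs => rw [← this, MulAut.apply_inv_self]
  · refine Or.inr (Or.inr fun d hd => ?_)
    have := key ((α * α)⁻¹ * φ) (mul_mem (inv_mem (mul_mem F.mem F.mem)) hφ)
      (by rw [MulAut.mul_apply, h, ← hαu, MulAut.inv_apply_self]) d hd
    rw [MulAut.mul_apply] at this
    rw [← hαu]
    conv_rhs => rw [← this, MulAut.apply_inv_self]

theorem invCenter_le_of_invariant {K : Subgroup X} (hK : K ≤ D) (hne : K ≠ ⊥)
    (hinv : ∀ k ∈ K, α k ∈ K) : invCenter X ≤ K := by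
  obtain ⟨e, he, he1, he2⟩ : ∃ e ∈ K, e ≠ 1 ∧ e * e = 1 := by
    have : Fact (Nat.Prime 2) := ⟨Nat.prime_two⟩
    have := (nontrivial_iff_ne_bot K).mpr hne
    obtain ⟨k, hk, hk'⟩ := (F.pg.to_subgroup K).nontrivial_iff_card.mp inferInstance
    obtain ⟨e, he⟩ := exists_prime_orderOf_dvd_card' (G := K) 2 (hk' ▸ dvd_pow_self 2 hk.ne')
    refine ⟨e, e.2, fun h => ?_, ?_⟩
    · rw [← Subgroup.orderOf_coe, h, orderOf_one] at he
      omega
    · have := pow_orderOf_eq_one e
      rw [he, pow_two] at this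
      exact congrArg Subtype.val this
  have heE := F.omega e (hK he) he2
  obtain ⟨-, hall, -, -⟩ := F.toSetting.orbit F.toSetting.card_invCenter_le F.mem
    (fun _ he => invCenter_map α he) heE he1 fun hf => he1 (F.eq_one_of_fixed_invCenter heE hf)
  intro z hz
  rcases hall z hz with rfl | rfl | rfl | rfl
  · exact one_mem K
  · exact he
  · exact hinv _ he
  · exact hinv _ (hinv _ he)

theorem invCenter_le_sq : invCenter X ≤ sqImage D := by
  refine F.invCenter_le_of_invariant (sqImage_le D) (fun h => F.ne fun d hd => ?_)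
    (fun _ => F.map_sq)
  refine F.omega d hd ?_
  have := mul_self_mem_sqImage hd
  rwa [h, mem_bot] at this

theorem card_eq_mul_sqImage {K : Subgroup X} (hK : K ≤ D) (hE : invCenter X ≤ K) :
    Nat.card K = 4 * Nat.card (sqImage K) := by
  have hc : ∀ a ∈ K, ∀ b ∈ K, a * b = b * a := fun a ha b hb => F.comm a (hK ha) b (hK hb)
  let f : K →* X :=
    { toFun := fun k => (k : X) * k
      map_one' := one_mul 1
      map_mul' := fun a b => (show Commute (b : X) a from hc _ b.2 _ a.2).mul_mul_mul_comm _ _ }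
  have hr : f.range = sqImage K := by
    ext y
    rw [mem_sqImage hc, MonoidHom.mem_range]
    exact ⟨fun ⟨k, hk⟩ => ⟨k, k.2, hk⟩, fun ⟨d, hd, e⟩ => ⟨⟨d, hd⟩, e⟩⟩
  have hker : Nat.card f.ker = 4 := by
    rw [← F.card_invCenter]
    exact Nat.card_congr
      { toFun := fun k => ⟨((k : K) : X), F.omega _ (hK (k : K).2) (MonoidHom.mem_ker.mp k.2)⟩
        invFun := fun e => ⟨⟨e, hE e.2⟩, MonoidHom.mem_ker.mpr e.2.2⟩
        left_inv := fun _ => rfl
        right_inv := fun _ => rfl }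
  rw [← card_mul_index f.ker, hker, index_eq_card,
    Nat.card_congr (QuotientGroup.quotientKerEquivRange f).toEquiv, hr]

/-- `D / D²` has order four. -/
theorem mem_sq_cases {d e : X} (hd : d ∈ D) (he : e ∈ D) (hd2 : d ∉ sqImage D)
    (he2 : e ∉ sqImage D) (hde : d * e ∉ sqImage D) {f : X} (hf : f ∈ D) :
    f ∈ sqImage D ∨ f * d ∈ sqImage D ∨ f * e ∈ sqImage D ∨ f * (d * e) ∈ sqImage D := by
  classical
  set K := (sqImage D).subgroupOf D with hKdef
  have : IsMulCommutative D := ⟨⟨fun a b => Subtype.ext (F.comm _ a.2 _ b.2)⟩⟩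
  have hKn : K.Normal := ⟨fun k hk g => by
    rwa [show g * k * g⁻¹ = k by rw [mul_comm' g k, mul_inv_cancel_right]]⟩
  have hidx : Nat.card (D ⧸ K) = 4 := by
    have h1 := card_mul_index K
    rw [Nat.card_congr (subgroupOfEquivOfLe (sqImage_le D)).toEquiv,
      F.card_eq_mul_sqImage le_rfl F.sub, index_eq_card, mul_comm 4] at h1
    exact Nat.eq_of_mul_eq_mul_left Nat.card_pos h1
  have : Fintype (D ⧸ K) := Fintype.ofFinite _
  set q := QuotientGroup.mk' K with hq
  have hq1 : ∀ a : D, q a = 1 ↔ (a : X) ∈ sqImage D := fun a =>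
    (QuotientGroup.eq_one_iff a).trans mem_subgroupOf
  have hsq : ∀ a : D, q a * q a = 1 := fun a => by
    rw [← map_mul, hq1]; exact mul_self_mem_sqImage a.2
  have hinv : ∀ a : D, (q a)⁻¹ = q a := fun a => inv_eq_of_mul_eq_one_right (hsq a)
  set d' : D := ⟨d, hd⟩
  set e' : D := ⟨e, he⟩
  have n1 : q d' ≠ 1 := fun h => hd2 ((hq1 d').mp h)
  have n2 : q e' ≠ 1 := fun h => he2 ((hq1 e').mp h)
  have n3 : q d' * q e' ≠ 1 := fun h => hde ((hq1 (d' * e')).mp (by rw [map_mul, h]))
  have n4 : q d' ≠ q e' := fun h => n3 (by rw [h, hsq])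
  have n5 : q d' * q e' ≠ q d' := fun h => n2 (mul_eq_left.mp h)
  have n6 : q d' * q e' ≠ q e' := fun h => n1 (mul_eq_right.mp h)
  set S : Finset (D ⧸ K) := {1, q d', q e', q d' * q e'} with hS
  have hScard : S.card = 4 := by
    simp [S, Finset.card_insert_of_notMem, Ne.symm n1, Ne.symm n2, Ne.symm n3, n4, Ne.symm n5,
      Ne.symm n6]
  have hSu : S = Finset.univ := Finset.eq_univ_of_card S (by
    rw [hScard, ← Nat.card_eq_fintype_card, hidx])
  have hmem := hSu ▸ Finset.mem_univ (q ⟨f, hf⟩)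
  simp only [S, Finset.mem_insert, Finset.mem_singleton] at hmem
  rcases hmem with h | h | h | h
  · exact Or.inl ((hq1 _).mp h)
  · exact Or.inr (Or.inl ((hq1 (⟨f, hf⟩ * d')).mp (by rw [map_mul, h, hsq])))
  · exact Or.inr (Or.inr (Or.inl ((hq1 (⟨f, hf⟩ * e')).mp (by rw [map_mul, h, hsq]))))
  · exact Or.inr (Or.inr (Or.inr ((hq1 (⟨f, hf⟩ * (d' * e'))).mp (by
      rw [map_mul, h, map_mul, ← map_mul q d' e', hsq]))))

theorem mem_sq_of_alpha {d : X} (hd : d ∈ D) (h : α d * d ∈ sqImage D) : d ∈ sqImage D := by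
  have h1 : α (α d) * α d ∈ sqImage D := by rw [← map_mul]; exact F.map_sq h
  have hn := F.norm_eq_one hd
  rw [mul_assoc, F.comm _ (F.map_mem hd) _ (F.map_mem (F.map_mem hd))] at hn
  rw [eq_inv_of_mul_eq_one_left hn]
  exact inv_mem h1

theorem alpha_not_mem {d : X} (hd2 : d ∉ sqImage D) (hd : d ∈ D) : α d ∉ sqImage D := fun h =>
  hd2 (by rw [← F.cube hd]; exact F.map_sq (F.map_sq h))

/-- The classes of `D / D²` in terms of one of them. -/
theorem mem_sq_cases_alpha {d : X} (hd : d ∈ D) (hd2 : d ∉ sqImage D) {f : X} (hf : f ∈ D) :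
    f ∈ sqImage D ∨ f * d ∈ sqImage D ∨ f * α d ∈ sqImage D ∨ f * α (α d) ∈ sqImage D := by
  rcases F.mem_sq_cases hd (F.map_mem hd) hd2 (F.alpha_not_mem hd2 hd)
    (fun h => hd2 (F.mem_sq_of_alpha hd (by rwa [F.comm _ (F.map_mem hd) _ hd]))) hf
    with h | h | h | h
  · exact Or.inl h
  · exact Or.inr (Or.inl h)
  · exact Or.inr (Or.inr (Or.inl h))
  · refine Or.inr (Or.inr (Or.inr ?_))
    have he := F.map_mem (F.map_mem hd)
    have hn := F.norm_eq_one hd
    rw [mul_eq_one_iff_eq_inv] at hn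
    rw [hn] at h
    have := mul_mem h (mul_self_mem_sqImage he)
    rwa [mul_assoc, inv_mul_cancel_left] at this

/-- `X` acts trivially on `D / D²`. -/
theorem conj_mem_sq (x : X) {d : X} (hd : d ∈ D) : x * d * x⁻¹ * d⁻¹ ∈ sqImage D := by
  have := F.normal
  have := sqImage_normal F.normal
  have hN : ¬ D ≤ sqImage D := by
    intro h
    have h1 := F.card_eq_mul_sqImage le_rfl F.sub
    rw [le_antisymm (sqImage_le D) h] at h1
    have : 0 < Nat.card D := Nat.card_pos
    omega
  obtain ⟨d₀, hd₀, hd₀2, -, hd₀c⟩ := exists_comm_mem F.pg hN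
  have hmk : ∀ d : X, (∀ g : X, g * d * g⁻¹ * d⁻¹ ∈ sqImage D) ↔
      (QuotientGroup.mk d : X ⧸ sqImage D) ∈ center (X ⧸ sqImage D) := by
    intro d
    rw [mem_center_iff]
    refine ⟨fun h y => ?_, fun h g => (QuotientGroup.eq_one_iff _).mp ?_⟩
    · obtain ⟨g, rfl⟩ := QuotientGroup.mk_surjective y
      exact mul_inv_eq_iff_eq_mul.mp (mul_inv_eq_one.mp ((QuotientGroup.eq_one_iff _).mpr (h g)))
    · rw [QuotientGroup.mk_mul, QuotientGroup.mk_mul, QuotientGroup.mk_mul, QuotientGroup.mk_inv,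
        QuotientGroup.mk_inv, h (QuotientGroup.mk g)]
      group
  have hα : ∀ d, (∀ g : X, g * d * g⁻¹ * d⁻¹ ∈ sqImage D) →
      ∀ g : X, g * α d * g⁻¹ * (α d)⁻¹ ∈ sqImage D := by
    intro d h g
    obtain ⟨g, rfl⟩ := α.surjective g
    rw [← map_inv, ← map_inv, ← map_mul, ← map_mul, ← map_mul]
    exact F.map_sq (h g)
  set Zc := (center (X ⧸ sqImage D)).comap (QuotientGroup.mk' (sqImage D)) with hZc
  have hsub : ∀ s ∈ sqImage D, s ∈ Zc := fun s hs => by
    show (QuotientGroup.mk s : X ⧸ sqImage D) ∈ center _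
    rw [(QuotientGroup.eq_one_iff s).mpr hs]
    exact one_mem _
  have a0 : d₀ ∈ Zc := (hmk _).mp hd₀c
  have a1 : α d₀ ∈ Zc := (hmk _).mp (hα _ hd₀c)
  have a2 : α (α d₀) ∈ Zc := (hmk _).mp (hα _ (hα _ hd₀c))
  have hall : d ∈ Zc := by
    rcases F.mem_sq_cases_alpha hd₀ hd₀2 hd with h | h | h | h
    · exact hsub d h
    · exact (Zc.mul_mem_cancel_right a0).mp (hsub _ h)
    · exact (Zc.mul_mem_cancel_right a1).mp (hsub _ h)
    · exact (Zc.mul_mem_cancel_right a2).mp (hsub _ h)
  exact (hmk d).mpr hall x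

/-- An `α`-invariant subgroup centralising `D`, with squares separated by `D / D²`, is abelian. -/
theorem mul_comm_of_sq {C : Subgroup X} (hcen : ∀ c ∈ C, ∀ d ∈ D, c * d = d * c)
    (hinv : ∀ c ∈ C, α c ∈ C) (hsq : ∀ c ∈ C, c * c ∈ D)
    (hcomm : ∀ a ∈ C, ∀ b ∈ C, a * b * a⁻¹ * b⁻¹ ∈ D)
    (hinj : ∀ c ∈ C, c * c ∈ sqImage D → c ∈ D) :
    ∀ a ∈ C, ∀ b ∈ C, a * b = b * a := by
  have hE : ∀ a ∈ C, ∀ b ∈ C, a * b * a⁻¹ * b⁻¹ ∈ invCenter X := by
    intro a ha b hb
    set δ := a * b * a⁻¹ * b⁻¹ with hδ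
    have hδD : δ ∈ D := hcomm a ha b hb
    refine F.omega δ hδD ?_
    have e1 : a * b = δ * (b * a) := by rw [hδ]; group
    have e3 : a * a * b = δ * δ * (b * (a * a)) := by
      calc a * a * b = a * (δ * (b * a)) := by rw [mul_assoc, e1]
        _ = δ * (a * b) * a := by rw [← mul_assoc a, hcen a ha δ hδD]; group
        _ = δ * δ * (b * (a * a)) := by rw [e1]; group
    have e4 := hcen b hb _ (hsq a ha)
    rw [← e4] at e3
    exact mul_eq_right.mp e3.symm
  by_contra hne
  push Not at hne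
  obtain ⟨a, ha, b, hb, hab⟩ := hne
  set δ := a * b * a⁻¹ * b⁻¹ with hδ
  have hδE : δ ∈ invCenter X := hE a ha b hb
  have hδ1 : δ ≠ 1 := fun h => hab (mul_inv_eq_iff_eq_mul.mp (mul_inv_eq_one.mp h))
  have hEs := F.invCenter_le_sq
  have hmulsq : ∀ c ∈ C, ∀ r ∈ C, c * c * (r * r) ∈ sqImage D → c * r ∈ D := by
    intro c hc r hr h
    refine hinj _ (mul_mem hc hr) ?_
    have hε := hE r hr c hc
    have e : c * r * (c * r) = (r * c * r⁻¹ * c⁻¹) * (c * c * (r * r)) := by
      calc c * r * (c * r) = c * (r * c * r⁻¹ * c⁻¹) * (c * (r * r)) := by group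
        _ = _ := by rw [invCenter_comm hε c]; group
    rw [e]
    exact mul_mem (hEs hε) h
  have haD : a ∉ D := fun h => hab ((hcen b hb a h).symm)
  have hbD : b ∉ D := fun h => hab (hcen a ha b h)
  have habD : a * b ∉ D := fun h => hab (by
    have := hcen a ha _ h
    rw [← mul_assoc] at this
    exact mul_left_cancel (a := a) (by rw [← mul_assoc, ← mul_assoc]; exact this))
  set P := closure ({a, b} ∪ (D : Set X)) with hP
  have hCP : ∀ c ∈ C, c ∈ P := by
    intro c hc
    have hD' : ∀ d ∈ D, d ∈ P := fun d hd => subset_closure (Or.inr hd)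
    have hA' : a ∈ P := subset_closure (Or.inl (Set.mem_insert _ _))
    have hB' : b ∈ P := subset_closure (Or.inl (Set.mem_insert_of_mem _ rfl))
    rcases F.mem_sq_cases (hsq a ha) (hsq b hb) (fun h => haD (hinj a ha h))
      (fun h => hbD (hinj b hb h)) (fun h => habD (hmulsq a ha b hb h)) (hsq c hc)
      with h | h | h | h
    · exact hD' c (hinj c hc h)
    · exact (P.mul_mem_cancel_right hA').mp (hD' _ (hmulsq c hc a ha h))
    · exact (P.mul_mem_cancel_right hB').mp (hD' _ (hmulsq c hc b hb h))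
    · have hε := hE b hb a ha
      refine (P.mul_mem_cancel_right (mul_mem hA' hB')).mp (hD' _ (hmulsq c hc _ (mul_mem ha hb) ?_))
      have e : a * b * (a * b) = (b * a * b⁻¹ * a⁻¹) * (a * a * (b * b)) := by
        calc a * b * (a * b) = a * (b * a * b⁻¹ * a⁻¹) * (a * (b * b)) := by group
          _ = _ := by rw [invCenter_comm hε a]; group
      rw [e, ← mul_assoc, invCenter_comm hε, mul_assoc]
      exact mul_mem (hEs hε) h
  have : (zpowers δ).Normal := ⟨fun z hz g => by
    obtain ⟨k, rfl⟩ := mem_zpowers_iff.mp hz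
    rw [(show Commute g δ from invCenter_comm hδE g).zpow_right k, mul_inv_cancel_right]
    exact zpow_mem (mem_zpowers δ) k⟩
  set π := QuotientGroup.mk' (zpowers δ) with hπ
  have hzδ : π δ = 1 := (QuotientGroup.eq_one_iff δ).mpr (mem_zpowers δ)
  have hπab : π a * π b = π b * π a := by
    rw [← map_mul, show a * b = δ * (b * a) by rw [hδ]; group, map_mul, hzδ, one_mul, map_mul]
  have hcl : IsMulCommutative (P.map π) := by
    rw [hP, MonoidHom.map_closure]
    refine isMulCommutative_closure ?_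
    rintro _ ⟨x, hx, rfl⟩ _ ⟨y, hy, rfl⟩
    rcases hx with hx | hx <;> rcases hy with hy | hy
    · rcases hx with rfl | rfl <;> rcases hy with rfl | rfl
      · rfl
      · exact hπab
      · exact hπab.symm
      · rfl
    · rw [← map_mul, ← map_mul]
      congr 1
      rcases hx with rfl | rfl
      · exact hcen _ ha y hy
      · exact hcen _ hb y hy
    · rw [← map_mul, ← map_mul]
      congr 1
      rcases hy with rfl | rfl
      · exact (hcen _ ha x hx).symm
      · exact (hcen _ hb x hx).symm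
    · rw [← map_mul, ← map_mul, F.comm x hx y hy]
  have hmem : ∀ c ∈ C, ∀ c' ∈ C, c * c' * c⁻¹ * c'⁻¹ ∈ zpowers δ := by
    intro c hc c' hc'
    refine (QuotientGroup.eq_one_iff _).mp ?_
    show π (c * c' * c⁻¹ * c'⁻¹) = 1
    have := congrArg Subtype.val (hcl.is_comm.comm ⟨π c, mem_map_of_mem π (hCP c hc)⟩
      ⟨π c', mem_map_of_mem π (hCP c' hc')⟩)
    simp only [Subgroup.coe_mul] at this
    rw [map_mul, map_mul, map_mul, map_inv, map_inv, this]
    group
  have hfix := hmem _ (hinv a ha) _ (hinv b hb)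
  rw [← map_inv, ← map_inv, ← map_mul, ← map_mul, ← map_mul, ← hδ] at hfix
  obtain ⟨k, hk⟩ := mem_zpowers_iff.mp hfix
  rcases Int.even_or_odd' k with ⟨r, rfl | rfl⟩
  · rw [zpow_mul, zpow_two, hδE.2, one_zpow] at hk
    exact hδ1 ((map_eq_one_iff α α.injective).mp hk.symm)
  · rw [zpow_add, zpow_mul, zpow_two, hδE.2, one_zpow, one_mul, zpow_one] at hk
    exact hδ1 (F.eq_one_of_fixed_invCenter hδE hk.symm)

end Frame

end CfsgLib.OddAutTwoGroup
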