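import Cfsg.Agent.OddAutTwoGroup.Action

/-!
# A self-centralising frame: `D` has exponent four and commutators are central involutions
-/

set_option autoImplicit false

open Subgroup

namespace CfsgLib.OddAutTwoGroup

variable {X : Type*} [Group X] [Finite X] {A : Subgroup (MulAut X)} {D : Subgroup X} {α : MulAut X}

namespace Frame

variable (F : Frame A D α)
include F

theorem exists_not_mem_sq : ∃ d ∈ D, d ∉ sqImage D := by
  by_contra h
  push Not at h
  have h1 := F.card_eq_mul_sqImage le_rfl F.sub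
  rw [le_antisymm (sqImage_le D) h] at h1
  have : 0 < Nat.card D := Nat.card_pos
  omega

/-- An element commuting with an element of each class centralises `D`. -/
theorem theta_eq_one_of_kernel (x : X) (h4 : sqImage (sqImage D) = ⊥) {d : X} (hd : d ∈ D)
    (hd2 : d ∉ sqImage D) (h : theta x d = 1) {e : X} (he : e ∈ D) : theta x e = 1 := by
  have := F.theta_zero_of_kernel x hd hd2 (by rw [h]; exact one_mem _) he
  rwa [h4, mem_bot] at this

/-- The exponent-four case. -/
theorem comm_mem_invCenter_of_four (hself : ∀ x, (∀ d ∈ D, x * d = d * x) → x ∈ D)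
    (hnc : ¬ D ≤ center X) (h4 : sqImage (sqImage D) = ⊥) :
    ∀ x y : X, x * y * x⁻¹ * y⁻¹ ∈ invCenter X := by
  have hDn := F.normal
  have hEn : (invCenter X).Normal := invCenter_normal
  obtain ⟨d₀, hd₀, hd₀2⟩ := F.exists_not_mem_sq
  have hsqE : ∀ c ∈ sqImage D, c ∈ invCenter X := fun c hc => by
    refine F.omega c (sqImage_le D hc) ?_
    have := mul_self_mem_sqImage hc
    rwa [h4, mem_bot] at this
  have hθE : ∀ x, ∀ d ∈ D, theta x d ∈ invCenter X := fun x d hd => hsqE _ (F.theta_sq x hd)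
  have hθmul : ∀ x y, ∀ d ∈ D, theta (x * y) d = theta y d * theta x d := fun x y d hd => by
    rw [theta_mul_left, theta_eq_one.mpr (invCenter_comm (hθE y d hd) x), one_mul]
  have hker : ∀ x, theta x d₀ = 1 → x ∈ D := fun x hx => hself x fun d hd =>
    theta_eq_one.mp (F.theta_eq_one_of_kernel x h4 hd₀ hd₀2 hx hd)
  have hDθ : ∀ x ∈ D, ∀ d ∈ D, theta x d = 1 := fun x hx d hd =>
    theta_eq_one.mpr (F.comm x hx d hd)
  have heq : ∀ x y, theta x d₀ = theta y d₀ → x * y ∈ D := fun x y hxy => hker _ (by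
    rw [hθmul x y d₀ hd₀, hxy, (hθE y d₀ hd₀).2])
  have hsqD : ∀ x, x * x ∈ D := fun x => heq x x rfl
  have hfixD : ∀ φ ∈ A, (∀ d ∈ D, φ d = d) → ∀ x, x⁻¹ * φ x ∈ D := by
    intro φ hφ hfix x
    refine hker _ ?_
    rw [hθmul _ _ d₀ hd₀]
    conv_lhs => arg 1; rw [← hfix d₀ hd₀]
    rw [theta_map, hfix _ (F.theta_mem x hd₀), ← hθmul x⁻¹ x d₀ hd₀, inv_mul_cancel]
    exact hDθ 1 (one_mem D) d₀ hd₀
  -- an element moved modulo `D`
  obtain ⟨a, ha⟩ : ∃ a, a⁻¹ * α a ∉ D := by
    by_contra hne
    push Not at hne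
    refine hnc fun d hd => mem_center_iff.mpr fun x => ?_
    have e : ∀ e ∈ D, α (theta x e) = theta x (α e) := fun e he => by
      rw [← theta_map, show α x = x * (x⁻¹ * α x) by group,
        hθmul _ _ _ (F.map_mem he), hDθ _ (hne x) _ (F.map_mem he), one_mul]
    refine theta_eq_one.mp ?_
    have ht := F.trace_mem x hd
    rw [h4, mem_bot, e _ (F.map_mem (F.map_mem hd)), F.cube hd, e _ (F.map_mem hd),
      e _ (F.map_mem (F.map_mem hd)), F.cube hd, (hθE x d hd).2, one_mul] at ht
    exact ht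
  set b := α a with hb
  have haD : a ∉ D := fun h => ha (mul_mem (inv_mem h) (F.map_mem h))
  have hbD : b ∉ D := fun h => haD (by
    have h2 := F.map_mem (F.map_mem h)
    have h3 := hfixD (α ^ 3) (pow_mem F.mem 3) (fun d hd => F.cube hd) a
    have h4' : (α ^ 3) a = α (α b) := rfl
    rw [h4'] at h3
    exact inv_mem_iff.mp ((D.mul_mem_cancel_right h2).mp h3))
  have habD : a * b ∉ D := fun h => ha (by
    rw [show a⁻¹ * b = (a * a)⁻¹ * (a * b) by group]
    exact mul_mem (inv_mem (hsqD a)) h)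
  -- the four classes
  have hv : ∀ x y, theta x d₀ ≠ theta y d₀ ∨ x * y ∈ D := fun x y => by
    by_cases h : theta x d₀ = theta y d₀
    · exact Or.inr (heq x y h)
    · exact Or.inl h
  have hcls : ∀ y, y ∈ D ∨ y * a ∈ D ∨ y * b ∈ D ∨ y * (a * b) ∈ D := by
    intro y
    have hva : theta a d₀ ≠ 1 := fun h => haD (hker a h)
    by_contra hne
    push Not at hne
    obtain ⟨hy, hya, hyb, hyab⟩ := hne
    have n0 : theta y d₀ ≠ 1 := fun h => hy (hker y h)
    have n1 := (hv y a).resolve_right hya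
    have n2 := (hv y b).resolve_right hyb
    have n3 := (hv y (a * b)).resolve_right hyab
    have m1 : theta b d₀ ≠ 1 := fun h => hbD (hker b h)
    have m2 : theta (a * b) d₀ ≠ 1 := fun h => habD (hker _ h)
    have m3 : theta b d₀ ≠ theta a d₀ := fun h => habD (heq a b h.symm)
    have m4 : theta (a * b) d₀ ≠ theta a d₀ := fun h => hbD (by
      have := mul_mem (inv_mem (hsqD a)) (heq _ _ h.symm)
      rwa [show (a * a)⁻¹ * (a * (a * b)) = b by group] at this)
    have m5 : theta (a * b) d₀ ≠ theta b d₀ := fun h => haD (by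
      have := mul_mem (heq _ _ h) (inv_mem (hsqD b))
      rwa [show a * b * b * (b * b)⁻¹ = a by group] at this)
    classical
    have : Fintype (invCenter X) := Fintype.ofFinite _
    let v : X → invCenter X := fun x => ⟨theta x d₀, hθE x d₀ hd₀⟩
    have hv_ne : ∀ x, theta x d₀ ≠ 1 → v x ≠ 1 := fun x hx h => hx (congrArg Subtype.val h)
    have hv_ne' : ∀ x z, theta x d₀ ≠ theta z d₀ → v x ≠ v z := fun x z hx h =>
      hx (congrArg Subtype.val h)
    let S : Finset (invCenter X) := {1, v a, v b, v (a * b), v y}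
    have hS : S.card = 5 := by
      simp [S, Finset.card_insert_of_notMem, Ne.symm (hv_ne _ hva), Ne.symm (hv_ne _ m1),
        Ne.symm (hv_ne _ m2), Ne.symm (hv_ne _ n0), Ne.symm (hv_ne' _ _ m3),
        Ne.symm (hv_ne' _ _ m4), Ne.symm (hv_ne' _ _ m5), Ne.symm (hv_ne' _ _ n1),
        Ne.symm (hv_ne' _ _ n2), Ne.symm (hv_ne' _ _ n3)]
    have hle := Finset.card_le_univ S
    rw [hS, ← Nat.card_eq_fintype_card, F.card_invCenter] at hle
    omega
  -- the commutator of `a` and `b`
  set c := a * b * a⁻¹ * b⁻¹ with hc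
  set π := QuotientGroup.mk' (invCenter X) with hπ
  have hπ1 : ∀ y, π y = 1 ↔ y ∈ invCenter X := fun y => QuotientGroup.eq_one_iff y
  have hπD : ∀ d ∈ D, ∀ x, Commute (π x) (π d) := fun d hd x => by
    show π x * π d = π d * π x
    rw [← map_mul, ← map_mul, show x * d = theta x d * (d * x) by simp only [theta]; group,
      map_mul, (hπ1 _).mpr (hθE x d hd), one_mul]
  have hcD : c ∈ D := by
    refine hker _ ?_
    rw [hc, hθmul _ _ d₀ hd₀, hθmul _ _ d₀ hd₀, hθmul _ _ d₀ hd₀]
    have hinv : ∀ x, theta x⁻¹ d₀ = theta x d₀ := fun x => by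
      have h := hθmul x x⁻¹ d₀ hd₀
      rw [mul_inv_cancel, hDθ 1 (one_mem D) d₀ hd₀] at h
      rw [eq_inv_of_mul_eq_one_left h.symm, invCenter_inv (hθE x d₀ hd₀)]
    rw [hinv, hinv, ← mul_assoc,
      (show Commute (theta a d₀) (theta b d₀) from
        invCenter_comm (hθE b d₀ hd₀) _).mul_mul_mul_comm,
      (hθE b d₀ hd₀).2, (hθE a d₀ hd₀).2, one_mul]
  have hsymm : ∀ {x y}, x * y ∈ D → y * x ∈ D := fun {x y} h => by
    rw [show y * x = y * (x * y) * y⁻¹ by group]
    exact hDn.conj_mem _ h y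
  have htrans : ∀ {x y z}, x * y ∈ D → y * z ∈ D → x * z ∈ D := fun {x y z} h1 h2 => by
    rw [show x * z = x * y * (y * y)⁻¹ * (y * z) by group]
    exact mul_mem (mul_mem h1 (inv_mem (hsqD y))) h2
  have hcube : ∀ x, α (α (α x)) * x ∈ D := fun x => by
    have h3 : x⁻¹ * α (α (α x)) ∈ D := hfixD (α ^ 3) (pow_mem F.mem 3) (fun d hd => F.cube hd) x
    rw [show α (α (α x)) * x = x * (x⁻¹ * α (α (α x))) * x⁻¹ * (x * x) by group]
    exact mul_mem (hDn.conj_mem _ h3 x) (hsqD x)
  have hαb : α b * (a * b) ∈ D := by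
    rcases hcls (α b) with h | h | h | h
    · refine absurd ?_ hbD
      have h2 := F.map_mem (F.map_mem h)
      have h3 := hfixD (α ^ 3) (pow_mem F.mem 3) (fun d hd => F.cube hd) b
      rw [show (α ^ 3) b = α (α (α b)) from rfl] at h3
      exact inv_mem_iff.mp ((D.mul_mem_cancel_right h2).mp h3)
    · exfalso
      have h2 := F.map_mem h
      rw [map_mul] at h2
      exact habD (htrans (hsymm (hcube a)) h2)
    · exfalso
      have h2 := F.map_mem (F.map_mem h)
      rw [map_mul, map_mul] at h2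
      exact habD (hsymm (htrans (hsymm (hcube b)) (htrans h2 (hcube a))))
    · exact h
  have hcE : c ∈ invCenter X := by
    have e1 : π (α c) = π c := by
      have hn : π (α b) = π (α b * (a * b)) * (π (a * b))⁻¹ := by
        rw [← map_inv, ← map_mul, mul_inv_cancel_right]
      have hz := hπD _ hαb
      rw [hc, map_mul α, map_mul α, map_mul α, map_inv, map_inv, ← hb, map_mul, map_mul, map_mul,
        map_inv, map_inv, hn]
      set z := π (α b * (a * b)) with hzdef
      calc π b * (z * (π (a * b))⁻¹) * (π b)⁻¹ * (z * (π (a * b))⁻¹)⁻¹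
          = π b * z * ((π (a * b))⁻¹ * (π b)⁻¹ * π (a * b)) * z⁻¹ := by group
        _ = z * (π b * (π (a * b))⁻¹ * (π b)⁻¹ * π (a * b)) * z⁻¹ := by
            rw [(hz b).eq]; group
        _ = π (b * (a * b)⁻¹ * b⁻¹ * (a * b)) := by
            rw [← map_inv π b, ← map_inv π (a * b), ← map_mul, ← map_mul, ← map_mul,
              ← (hz _).eq, mul_inv_cancel_right]
        _ = π ((b * a)⁻¹ * c * (b * a)) := by rw [hc]; congr 1; group
        _ = π (a * b * a⁻¹ * b⁻¹) := by
            rw [map_mul, map_mul, map_inv, mul_assoc, ← (hπD c hcD (b * a)).eq, inv_mul_cancel_left,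
              hc, map_mul, map_mul, map_mul, map_inv, map_inv]
    have h2 : α c * c⁻¹ ∈ invCenter X := (hπ1 _).mp (by rw [map_mul, e1, map_inv, mul_inv_cancel])
    have h3 : α (c * c) = c * c := by
      have h := h2.2
      rw [(show Commute c⁻¹ (α c) from F.comm _ (inv_mem hcD) _ (F.map_mem hcD)).mul_mul_mul_comm,
        ← map_mul, ← mul_inv_rev] at h
      exact mul_inv_eq_one.mp h
    exact F.omega c hcD (F.eq_one_of_fixed (mul_mem hcD hcD) h3)
  -- everything commutes modulo the central involutions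
  set P := closure ({a, b} ∪ (D : Set X)) with hP
  have hPtop : ∀ y, y ∈ P := by
    intro y
    have hD' : ∀ d ∈ D, d ∈ P := fun d hd => subset_closure (Or.inr hd)
    have hA' : a ∈ P := subset_closure (Or.inl (Set.mem_insert _ _))
    have hB' : b ∈ P := subset_closure (Or.inl (Set.mem_insert_of_mem _ rfl))
    rcases hcls y with h | h | h | h
    · exact hD' y h
    · exact (P.mul_mem_cancel_right hA').mp (hD' _ h)
    · exact (P.mul_mem_cancel_right hB').mp (hD' _ h)
    · exact (P.mul_mem_cancel_right (mul_mem hA' hB')).mp (hD' _ h)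
  have hπab : π a * π b = π b * π a := by
    rw [← map_mul, ← map_mul, show a * b = c * (b * a) by rw [hc]; group, map_mul,
      (hπ1 c).mpr hcE, one_mul]
  have hcl : IsMulCommutative (P.map π) := by
    rw [hP, MonoidHom.map_closure]
    refine isMulCommutative_closure ?_
    rintro _ ⟨x, hx, rfl⟩ _ ⟨y, hy, rfl⟩
    rcases hx with hx | hx
    · rcases hy with hy | hy
      · rcases hx with rfl | rfl <;> rcases hy with rfl | rfl
        · rfl
        · exact hπab
        · exact hπab.symm
        · rfl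
      · exact hπD y hy x
    · exact (hπD x hx y).symm
  intro x y
  refine (hπ1 _).mp ?_
  have := congrArg Subtype.val (hcl.is_comm.comm ⟨π x, mem_map_of_mem π (hPtop x)⟩
    ⟨π y, mem_map_of_mem π (hPtop y)⟩)
  simp only [Subgroup.coe_mul] at this
  rw [map_mul, map_mul, map_mul, map_inv, map_inv, this]
  group

end Frame

end CfsgLib.OddAutTwoGroup
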