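import Cfsg.Agent.OddAutTwoGroup.ClassTwo
import Cfsg.Agent.Solvable.Frattini

/-!
# The non-abelian case: `X` is special with centre the central involutions
-/

set_option autoImplicit false

open Subgroup

namespace CfsgLib.OddAutTwoGroup

variable {X : Type*} [Group X] [Finite X] {A : Subgroup (MulAut X)}

namespace Setting

variable (h : Setting A)
include h

theorem theta_mem (x y : X) : theta x y ∈ invCenter X := h.comm_mem_invCenter x y

theorem sq_mem_center (x : X) : x * x ∈ center X := by
  refine mem_center_iff.mpr fun y => (theta_eq_one.mp ?_).symm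
  rw [theta_mul_left, theta_eq_one.mpr (invCenter_comm (h.theta_mem x y) x), one_mul,
    (h.theta_mem x y).2]

theorem commutator_le : commutator X ≤ invCenter X := by
  rw [commutator_eq_closure, closure_le]
  rintro _ ⟨a, b, rfl⟩
  rw [commutatorElement_def]
  exact h.comm_mem_invCenter a b

variable (hna : ∃ a b : X, a * b ≠ b * a)
include hna

theorem exists_theta_ne : ∃ a b : X, theta a b ∈ commutator X ∧ theta a b ≠ 1 := by
  obtain ⟨a, b, hab⟩ := hna
  refine ⟨a, b, ?_, fun e => hab (theta_eq_one.mp e)⟩
  exact commutator_mem_commutator (mem_top a) (mem_top b)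

theorem center_le_invCenter : center X ≤ invCenter X := by
  by_contra hne
  have hZinv : ∀ φ ∈ A, ∀ d ∈ center X, φ d ∈ center X := fun φ _ d hd =>
    mem_center_iff.mpr fun g => by
      obtain ⟨g, rfl⟩ := φ.surjective g
      rw [← map_mul, ← map_mul, mem_center_iff.mp hd g]
  have hZc : ∀ a ∈ center X, ∀ b ∈ center X, a * b = b * a :=
    fun a _ b hb => mem_center_iff.mp hb a
  obtain ⟨φ, hφ, d, hd, hmove⟩ : ∃ φ ∈ A, ∃ d ∈ center X, φ d ≠ d := by
    by_contra hfix
    push Not at hfix
    exact hne fun z hz => h.commutator_le (h.mem_commutator_of_fixed fun φ hφ => hfix φ hφ z hz)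
  have F : Frame A (center X) φ :=
    { toSetting := h
      normal := inferInstance
      comm := hZc
      inv := hZinv
      mem := hφ
      omega := fun d hd hd2 => ⟨hd, hd2⟩
      sub := fun e he => he.1
      moves := by
        by_contra hm
        push Not at hm
        exact hmove (h.fix_of_fix_omega hZc hφ (hZinv φ hφ) (fun e he he2 => hm e ⟨he, he2⟩) hd)
      ne := hne }
  obtain ⟨a, b, hab⟩ := hna
  refine hab (F.mul_comm_of_sq (C := ⊤) (fun c _ e he => mem_center_iff.mp he c)
    (fun c _ => mem_top _) (fun c _ => h.sq_mem_center c)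
    (fun x _ y _ => (h.comm_mem_invCenter x y).1) (fun c _ hc => ?_) a (mem_top a) b (mem_top b))
  obtain ⟨z, hz, hzc⟩ := (mem_sqImage hZc).mp hc
  by_contra hcZ
  refine F.false_of_involution (t := c * z⁻¹) ?_ (fun h' => hcZ ?_)
    fun g => h.comm_mem_invCenter g _
  · rw [(show Commute z⁻¹ c from
      (mem_center_iff.mp (inv_mem hz) c).symm).mul_mul_mul_comm, ← hzc]
    group
  · have := mul_mem h'.1 hz
    rwa [inv_mul_cancel_right] at this

theorem center_eq : center X = invCenter X :=
  le_antisymm (h.center_le_invCenter hna) fun _ he => he.1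

theorem sq_mem (x : X) : x * x ∈ invCenter X :=
  h.center_le_invCenter hna (h.sq_mem_center x)

theorem commutator_eq : commutator X = invCenter X := by
  refine le_antisymm h.commutator_le ?_
  obtain ⟨a, b, hδ, hδ1⟩ := h.exists_theta_ne hna
  by_cases hfix : ∀ φ ∈ A, ∀ e ∈ invCenter X, φ e = e
  · exact fun e he => h.mem_commutator_of_fixed fun φ hφ => hfix φ hφ e he
  push Not at hfix
  obtain ⟨φ, hφ, u, hu, hum⟩ := hfix
  obtain ⟨h3, hall, -, h20⟩ := h.orbit h.card_invCenter_le hφ (fun _ => invCenter_map φ) hu
    (fun e => hum (by rw [e, map_one])) hum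
  have hδm : φ (theta a b) ≠ theta a b := by
    rcases hall _ (h.theta_mem a b) with e | e | e | e
    · exact absurd e hδ1
    · rw [e]; exact hum
    · rw [e]; exact fun e' => hum (φ.injective e')
    · rw [e, h3]; exact h20.symm
  obtain ⟨-, hall', -, -⟩ := h.orbit h.card_invCenter_le hφ (fun _ => invCenter_map φ)
    (h.theta_mem a b) hδ1 hδm
  have hmap : ∀ z ∈ commutator X, φ z ∈ commutator X := fun z hz => by
    have := (inferInstance : (commutator X).Characteristic)
    exact (characteristic_iff_le_comap.mp this φ) hz
  intro e he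
  rcases hall' e he with rfl | rfl | rfl | rfl
  · exact one_mem _
  · exact hδ
  · exact hmap _ hδ
  · exact hmap _ (hmap _ hδ)

theorem frattini_eq : frattini X = invCenter X := by
  have : Fact (Nat.Prime 2) := ⟨Nat.prime_two⟩
  refine le_antisymm (Solvable.frattini_le_of_elementary (p := 2) h.commutator_le fun x => ?_) ?_
  · rw [pow_two]; exact h.sq_mem hna x
  · rw [← h.commutator_eq hna]; exact Solvable.commutator_le_frattini h.pg

theorem isSpecial : Cfsg.IsSpecial 2 X :=
  ⟨h.pg, by rw [h.frattini_eq hna, h.center_eq hna],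
    by rw [h.commutator_eq hna, h.center_eq hna]⟩

theorem card_invCenter : Nat.card (invCenter X) = 2 ∨ Nat.card (invCenter X) = 4 := by
  obtain ⟨a, b, hδ, hδ1⟩ := h.exists_theta_ne hna
  have : Fact (Nat.Prime 2) := ⟨Nat.prime_two⟩
  have h4 := h.card_invCenter_le
  obtain ⟨k, hk⟩ := IsPGroup.iff_card.mp
    (show IsPGroup 2 (invCenter X) from h.pg.to_subgroup _)
  rw [hk] at h4 ⊢
  rcases k with - | _ | _ | k
  · exfalso
    rw [pow_zero, card_eq_one] at hk
    have := h.theta_mem a b
    rw [hk, mem_bot] at this
    exact hδ1 this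
  · exact Or.inl rfl
  · exact Or.inr rfl
  · exfalso
    have : 0 < 2 ^ k := pow_pos two_pos k
    simp only [pow_succ] at h4
    omega

end Setting

/-- The centraliser of `a` has index at most the number of central involutions. -/
theorem Setting.card_le_centralizer (h : Setting A) (a : X) :
    Nat.card X ≤ Nat.card (invCenter X) * Nat.card (centralizer ({a} : Set X)) := by
  let f : X →* X :=
    { toFun := fun g => theta g a
      map_one' := by simp [theta]
      map_mul' := fun x y => by
        show theta (x * y) a = theta x a * theta y a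
        rw [theta_mul_left, theta_eq_one.mpr (invCenter_comm (h.theta_mem y a) x), one_mul,
          invCenter_comm (h.theta_mem x a) (theta y a)] }
  have hker : f.ker = centralizer ({a} : Set X) := by
    ext g
    rw [MonoidHom.mem_ker, mem_centralizer_singleton_iff]
    exact theta_eq_one
  have hr : f.range ≤ invCenter X := by rintro _ ⟨g, rfl⟩; exact h.theta_mem g a
  rw [← card_mul_index f.ker, hker, index_eq_card, mul_comm]
  refine Nat.mul_le_mul_right _ ?_
  rw [← hker, Nat.card_congr (QuotientGroup.quotientKerEquivRange f).toEquiv]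
  exact card_le_of_le hr

end CfsgLib.OddAutTwoGroup
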